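import Cfsg.Agent.H89.Reg.Ten

/-!
# S3691, row `PSU_N(q)`, `N = 9`
-/

set_option autoImplicit false
set_option linter.unusedSectionVars false

namespace Cfsg.Agent.H89.Reg

open Cfsg Cfsg.Geo Module Matrix
open Cfsg.Agent.LieClassical.HermBasic Cfsg.Agent.ClassicalGeometry.HermOrtho
open Cfsg.Agent.LieClassical.HermSiegel (act mat act_mul act_one act_inv_act act_act_inv herm_act)
open Cfsg.Agent.H278.Cov Cfsg.Agent.H851.Dg Cfsg.Agent.H454.Reg
open Cfsg.Agent.GpUn (fx mem_fx ND fixG mem_fixG exists_equiv)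
open Cfsg.Agent.H674.SUBlock (pr pr_surjective)
open Cfsg.Agent.H251.GeoU (nat_card_eq ord_sq_odd ord_sq_even pre card_dvd_pre)
open Cfsg.Agent.H436 Cfsg.Agent.H915.GN Cfsg.Agent.OrdDiv
open Cfsg.Agent.H729.CovU Cfsg.Agent.H729.CovSU9

variable {F : Type} [Field F] [Fintype F] {p f : ℕ}

/-- the residual class of `SU_8(q)`: the conclusion of S5821 -/
def Res8 (F : Type) [Field F] [Fintype F] (q : ℕ) : Prop :=
  ∀ H : Subgroup (Matrix.GeneralLinearGroup (Fin 8) F),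
    Cfsg.Geo.IsMaximalIn (Cfsg.GU 8 F q ⊓ Cfsg.Geo.specialLinear (Fin 8) F) H →
    Cfsg.Geo.InUnitaryResidualClass H →
    ∃ P : Subgroup (Matrix.GeneralLinearGroup (Fin 8) F), Cfsg.Geo.IsResidualCore H P ∧ q.Prime ∧
      (q % 80 = 11 ∨ q % 80 = 19 ∨ q % 80 = 39 ∨ q % 80 = 51 ∨ q % 80 = 59 ∨ q % 80 = 71 ∨ q % 80 = 31 ∨ q % 80 = 79) ∧
      (∃ (K : Type) (_ : Field K) (_ : Fintype K), Fintype.card K = 4 ∧
        Nonempty ((P ⧸ (Cfsg.Geo.scalars (Fin 8) F).subgroupOf P) ≃* Matrix.ProjectiveSpecialLinearGroup (Fin 3) K))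

/-- `L_3(4)` -/
theorem l34 {S : Type} [Group S] [Finite S] [IsSimpleGroup S] (hna : ¬ IsMulCommutative S) {K : Type} [Field K]
    [Fintype K] (hK : Fintype.card K = 4) (e : S ≃* Matrix.ProjectiveSpecialLinearGroup (Fin 3) K) {r : ℕ}
    (hr : r.Prime) (h5 : 5 ≤ r) (h : r ∣ Nat.card (Cfsg.Out S) ∨ r ∣ Nat.card S) : r = 5 ∨ r = 7 := by
  have heq : den (.psl 3 4) * Nat.card S = num (.psl 3 4) := by
    rw [Nat.card_congr e.toEquiv]
    have h1 := psl_eq (F := K) (n := 3) (by norm_num)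
    rw [hK] at h1
    exact h1
  have hS : IsNamed (.psl 3 4) S :=
    .mk' ⟨K, inferInstance, inferInstance, hK, ⟨e⟩⟩
      ⟨by norm_num, fun h => by omega, by rw [← hK]; exact Fintype.isPrimePow_card_of_field⟩ heq
  have hcard : Nat.card S = 20160 := by
    have h1 : den (.psl 3 4) = 9 := by decide +kernel
    have h2 : num (.psl 3 4) = 181440 := by decide +kernel
    rw [h1, h2] at heq
    omega
  have h1 : r ∣ Nat.card S := by
    rcases h with h | h
    · rcases Cfsg.Agent.H884.Cx.dvd_of_out' (not_comm' hna) (s := 2) Nat.prime_two hS ⟨2, by norm_num⟩ hr h5 h with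
        h1 | h1
      · exact h1
      · have := Nat.le_of_dvd two_pos (h1 2 (by rfl))
        omega
    · exact h
  rw [hcard, show 20160 = 2 ^ 6 * 3 ^ 2 * (5 * 7) by norm_num] at h1
  rcases hr.dvd_mul.1 h1 with h1 | h1
  · exfalso
    rcases hr.dvd_mul.1 h1 with h1 | h1
    · have := Nat.le_of_dvd (by norm_num) (hr.dvd_of_dvd_pow h1); omega
    · have := Nat.le_of_dvd (by norm_num) (hr.dvd_of_dvd_pow h1); omega
  · rcases hr.dvd_mul.1 h1 with h1 | h1
    · exact Or.inl ((Nat.prime_dvd_prime_iff_eq hr (by norm_num)).1 h1)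
    · exact Or.inr ((Nat.prime_dvd_prime_iff_eq hr (by norm_num)).1 h1)

theorem inv_of_pre {n q : ℕ} {M : Subgroup (PSU n F q)} {W : Submodule F (Fin n → F)}
    (h : pre M ≤ subspaceStabilizer W) : InvA (M.comap pr) W := fun g hg w hw => ((h ⟨g, hg, rfl⟩) w).1 hw

theorem nf_of_pre {n q r : ℕ} {M : Subgroup (PSU n F q)} {K : Subalgebra F (Matrix (Fin n) (Fin n) F)}
    (hK : IsFieldSubalgebra r K) (h : pre M ≤ subalgebraNormalizer K) : NF (M.comap pr) r :=
  ⟨K, hK, fun g hg => h ⟨g, hg, rfl⟩⟩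

theorem InvA.mono {n q : ℕ} {A B : Subgroup (SU n F q)} {W : Submodule F (Fin n → F)} (h : InvA B W) (hAB : A ≤ B) :
    InvA A W := fun g hg => h g (hAB hg)

theorem dvd_comap_of {n q s : ℕ} {M : Subgroup (PSU n F q)} (h : s ∣ Nat.card M) :
    s ∣ Nat.card (M.comap (pr : SU n F q →* _)) := h.trans (card_dvd_comap M)

/-- a maximal subgroup of `PSU_8(q)` of order divisible by a primitive prime of `q ^ 7 + 1` fixes a point -/
theorem eight_fix (hres : Res8 F (p ^ f)) (hp : p.Prime) (hf : 1 ≤ f) (hF : Fintype.card F = (p ^ f) ^ 2) {s7 : ℕ}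
    (h7 : Pm p f 7 s7) {M : Subgroup (PSU 8 F (p ^ f))} (hM : IsCoatom M) (hd : s7 ∣ Nat.card M) :
    ∃ W : Submodule F (Fin 8 → F), finrank F W = 1 ∧ InvA (M.comap pr) W := by
  have ho7 := h7.ord hp hf (by norm_num) (by decide)
  have hb7 := h7.dvd_pred hp hf (by norm_num)
  have hl7 := h7.lt hp hf (by norm_num)
  rcases geo_over_pre hF hp rfl hf h7.pr h7.iff ho7 (by decide) (by norm_num) (by norm_num) (by omega) hM.1 hd with
    ⟨W, hW0, -, hW, -⟩ | ⟨W, hW0, -, -, hW, hle⟩ | ⟨r, K, hr, -, hr8, hr7, -, -⟩ | hMr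
  · exact absurd (Submodule.finrank_eq_zero.1 (by omega)) hW0
  · have hpos : finrank F W ≠ 0 := fun h => hW0 (Submodule.finrank_eq_zero.1 h)
    exact ⟨W, by omega, inv_of_pre hle⟩
  · exfalso
    have h1 : r ∣ 8 - 7 := Nat.dvd_sub hr8 hr7
    exact hr.one_lt.ne' (Nat.dvd_one.1 h1)
  · exfalso
    obtain ⟨P, hP, -, -, K, i1, i2, hK, ⟨e2⟩⟩ := hres (pre M) (isMaximalIn_pre hM) hMr
    obtain ⟨S, hSn, hSs, hna, hC, ⟨e⟩⟩ := H264.FKS.exists_res_psu hF (by norm_num) hP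
    rcases l34 hna hK (e.trans e2) h7.pr (by omega) (dvd_or S hna hC h7.pr hd) with h1 | h1 <;> omega

/-- a proper subgroup of `SU_8(q)` of order divisible by the primes of order `7` and `8` does not exist -/
theorem eight_top (hres : Res8 F (p ^ f)) (hp : p.Prime) (hf : 1 ≤ f) (hF : Fintype.card F = (p ^ f) ^ 2) {s7 t : ℕ}
    (h7 : Pm p f 7 s7) (ht : Ev p f 8 t) {B : Subgroup (SU 8 F (p ^ f))} (hd : s7 ∣ Nat.card B) (htd : t ∣ Nat.card B) :
    B = ⊤ := by
  by_contra hB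
  have hMt : B.map (pr : SU 8 F (p ^ f) →* _) ≠ ⊤ := map_ne_top hF (by norm_num) (by norm_num) hB
  obtain ⟨M, hM, hle⟩ := (eq_top_or_exists_le_coatom (B.map (pr : SU 8 F (p ^ f) →* _))).resolve_left hMt
  have h1 : s7 ∣ Nat.card M := (dvd_map hF (by norm_num) h7.pr (h7.not_dvd_succ hf (by omega)) hd).trans
    (Subgroup.card_dvd_of_le hle)
  obtain ⟨W, hW1, hW⟩ := eight_fix hres hp hf hF h7 hM h1
  have hWB : InvA B W := hW.mono fun g hg => hle ⟨g, hg, rfl⟩
  obtain ⟨g, hg, hgs, hg1, -⟩ := exists_elt ht.pr htd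
  have htO := ht.card_ord (by decide) hF
  have htq : ¬ t ∣ p ^ f := Cfsg.Agent.H251.GeoU.not_dvd_of_ord ht.pr ht.ord (by omega)
  have h5 : W ≤ fx g := le_fx (a := 1) ht.pr htO (by rw [pow_one]; exact hgs) (hWB g hg) (by omega)
  have h6 := fx_dim_neg hF ht.pr htq hgs hg1
  rw [ht.ord] at h6
  have := Submodule.finrank_mono h5
  omega

/-- the residual maximal subgroups of `PSU_9(q)` have order prime to the primitive primes of `q ^ 7 + 1` -/
theorem nine_res (hres : Res9 F (p ^ f)) (hp : p.Prime) (hf : 1 ≤ f) (hF : Fintype.card F = (p ^ f) ^ 2) {s7 : ℕ}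
    (h7 : Pm p f 7 s7) {M : Subgroup (PSU 9 F (p ^ f))} (hM : IsCoatom M) (hMr : InUnitaryResidualClass (pre M)) :
    ¬ s7 ∣ Nat.card M := by
  have ho7 := h7.ord hp hf (by norm_num) (by decide)
  have hb7 := h7.dvd_pred hp hf (by norm_num)
  have hl7 := h7.lt hp hf (by norm_num)
  have hd7 : 14 ∣ s7 - 1 := Dvd.dvd.trans ⟨f, by ring⟩ hb7
  obtain ⟨P, hP, hcases⟩ := hres (pre M) (isMaximalIn_pre hM) hMr
  obtain ⟨S, hSn, hSs, hna, hC, ⟨e⟩⟩ := H264.FKS.exists_res_psu hF (by norm_num) hP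
  rcases hcases with ⟨⟨e2⟩, -⟩ | ⟨hJ, -⟩ | hL
  · intro h
    rcases l219 hna (e.trans e2) h7.pr (by omega) (dvd_or S hna hC h7.pr h) with h1 | h1 <;> omega
  · have hJ' : Spor.IsoJ3 S := by
      obtain ⟨K, i1, i2, ω, hK, hω, ⟨e3⟩⟩ := hJ
      exact ⟨K, i1, i2, ω, hK, hω, ⟨e.trans e3⟩⟩
    intro h
    rcases j3 hJ' h7.pr (by omega) (dvd_or S hna hC h7.pr h) with h1 | h1 | h1 <;> omega
  · obtain ⟨e2⟩ := hL
    intro h
    exact l3 hF hp rfl hf hna (e.trans e2) h7.pr ho7 (by decide) (by norm_num) hb7 (dvd_or S hna hC h7.pr h)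

/-- `L_3(q ^ 2)`, the primes of order `8` -/
theorem l3_ev (hp : p.Prime) (hF : Fintype.card F = (p ^ f) ^ 2) {S : Type} [Group S] [Finite S]
    [IsSimpleGroup S] (hna : ¬ IsMulCommutative S) (e : S ≃* Matrix.ProjectiveSpecialLinearGroup (Fin 3) F) {t : ℕ}
    (ht : Ev p f 8 t) (h : t ∣ Nat.card (Cfsg.Out S) ∨ t ∣ Nat.card S) : False := by
  have hlt := ht.le (by norm_num)
  have hq1 : 1 < p ^ f := q_one_lt hF
  have hS : IsNamed (.psl 3 (Fintype.card F)) S :=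
    .mk' ⟨F, inferInstance, inferInstance, rfl, ⟨e⟩⟩
      ⟨by norm_num, fun h => by omega, Fintype.isPrimePow_card_of_field⟩ (by
        rw [Nat.card_congr e.toEquiv]
        exact psl_eq (by norm_num))
  have hS' : ¬ t ∣ Nat.card S := by
    intro h1
    rw [Nat.card_congr e.toEquiv] at h1
    have h2 : t ∣ Nat.card (GL (Fin 3) F) := by
      refine (h1.trans (Subgroup.card_quotient_dvd_card _)).trans ?_
      rw [Nat.card_congr (Equiv.ofInjective _ (Matrix.SpecialLinearGroup.toGL_injective (n := Fin 3) (R := F)))]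
      exact Subgroup.card_subgroup_dvd_card (Matrix.SpecialLinearGroup.toGL (n := Fin 3) (R := F)).range
    have hsq := Cfsg.Agent.H251.GeoU.not_dvd_of_ord ht.pr ht.ord (by omega)
    have h3 := Cfsg.Agent.H251.GeoCard.div_of_dvd_card_fin ht.pr
      (Cfsg.Agent.H251.GeoU.not_dvd_card hF ht.pr hsq) h2
    have h4 := Cfsg.Agent.H251.GeoU.ord_le_of_div (Nat.one_le_iff_ne_zero.2 Nat.card_pos.ne') h3
    rw [ht.card_ord (by decide) hF] at h4
    omega
  rcases h with h | h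
  · have hch : Fintype.card F = p ^ (f * 2) := by rw [hF, pow_mul]
    rcases Cfsg.Agent.H884.Cx.dvd_of_out' (not_comm' hna) hp hS ⟨f * 2, hch⟩ ht.pr (by omega) h with h1 | h1
    · exact hS' h1
    · rcases ht.pr.dvd_mul.1 (h1 (f * 2) hch) with h2 | h2
      · exact ht.not_dvd_f h2
      · exact ht.ne_two ((Nat.prime_dvd_prime_iff_eq ht.pr Nat.prime_two).1 h2)
  · exact hS' h

/-- maximal subgroups of `PSU_9(q)` of order divisible by a primitive prime of `q ^ 9 + 1` have order prime to the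
primes of order `8` (`q ≠ 2`) -/
theorem nine_coatom_ev (hres : Res9 F (p ^ f)) (hp : p.Prime) (hf : 1 ≤ f) (hF : Fintype.card F = (p ^ f) ^ 2)
    (hq2 : p ^ f ≠ 2) {s9 t : ℕ} (h9 : Pm p f 9 s9) (ht : Ev p f 8 t) {M : Subgroup (PSU 9 F (p ^ f))}
    (hM : IsCoatom M) (hd : s9 ∣ Nat.card M) : ¬ t ∣ Nat.card M := by
  have ho9 := h9.ord hp hf (by norm_num) (by decide)
  have hl9 := h9.lt hp hf (by norm_num)
  have htO := ht.card_ord (by decide) hF
  have htq : ¬ t ∣ p ^ f := Cfsg.Agent.H251.GeoU.not_dvd_of_ord ht.pr ht.ord (by omega)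
  have htle := ht.le (by norm_num)
  have ht8 : 8 ∣ t - 1 := Cfsg.Agent.H251.GeoU.dvd_pred_of_ord ht.pr ht.ord (by norm_num)
  rcases geo_over_pre hF hp rfl hf h9.pr h9.iff ho9 (by decide) (by norm_num) (by norm_num) (by omega) hM.1 hd with
    ⟨W, hW0, -, hW, -⟩ | ⟨W, hW0, -, -, hW, -⟩ | ⟨r, K, hr, hro, hr9, -, hK, hle⟩ | hMr
  · exact absurd (Submodule.finrank_eq_zero.1 (by omega)) hW0
  · exact absurd (Submodule.finrank_eq_zero.1 (by omega)) hW0
  · have hr3 : r = 3 := by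
      have h1 : r ∣ 3 ^ 2 := hr9
      exact (Nat.prime_dvd_prime_iff_eq hr Nat.prime_three).1 (hr.dvd_of_dvd_pow h1)
    subst hr3
    intro h
    obtain ⟨i, hi1, hi2, hi3⟩ := (nf_of_pre hK hle).div hF hr (by norm_num) ht.pr htq (by omega) htO (dvd_comap_of h)
    omega
  · intro h
    obtain ⟨P, hP, hcases⟩ := hres (pre M) (isMaximalIn_pre hM) hMr
    obtain ⟨S, hSn, hSs, hna, hC, ⟨e⟩⟩ := H264.FKS.exists_res_psu hF (by norm_num) hP
    rcases hcases with ⟨⟨e2⟩, -⟩ | ⟨-, hq⟩ | hL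
    · rcases l219 hna (e.trans e2) ht.pr (by omega) (dvd_or S hna hC ht.pr h) with h1 | h1 <;> omega
    · exact hq2 hq
    · obtain ⟨e2⟩ := hL
      exact l3_ev hp hF hna (e.trans e2) ht (dvd_or S hna hC ht.pr h)

/-- the case `N = 9`, the factor containing the primes of order `9` -/
theorem nine_case (hres8 : Res8 F (p ^ f)) (hres : Res9 F (p ^ f)) (hp : p.Prime) (hf : 1 ≤ f)
    (hF : Fintype.card F = (p ^ f) ^ 2) (hq2 : p ^ f ≠ 2) {X Y : Subgroup (PSU (8 + 1) F (p ^ f))} (h : Pr p f X Y)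
    {l : ℕ} (hl : Pm p f 9 l) (hd : l ∣ Nat.card X) : Res Y := by
  obtain ⟨s7, h7⟩ := exists_pm (p := p) (f := f) (k := 7) hp hf (by norm_num) (by decide)
  obtain ⟨t, ht⟩ := exists_ev (p := p) (f := f) (n := 8) hp hf (by omega)
  have ho7 := h7.ord hp hf (by norm_num) (by decide)
  have hl7 := h7.lt hp hf (by norm_num)
  have htO := ht.card_ord (by decide) hF
  have htq : ¬ t ∣ p ^ f := Cfsg.Agent.H251.GeoU.not_dvd_of_ord ht.pr ht.ord (by omega)
  have hXY : ∀ {s : ℕ}, s.Prime → s ≠ 2 → ¬ s ∣ f → ¬ s ∣ p ^ f + 1 → s ∣ Nat.card (PSU (8 + 1) F (p ^ f)) →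
      ¬ s ∣ Nat.card X → s ∣ Nat.card Y := by
    intro s hs h2 hsf hsq hsd hX
    have h1 := h.val s hs h2 hsf hsq
    rw [Nat.factorization_eq_zero_of_not_dvd hX, zero_add] at h1
    have h3 := (hs.dvd_iff_one_le_factorization Nat.card_pos.ne').1 hsd
    rw [← h1] at h3
    exact (hs.dvd_iff_one_le_factorization Nat.card_pos.ne').2 h3
  obtain ⟨M, hM, hXM⟩ := (eq_top_or_exists_le_coatom X).resolve_left h.neX
  have hdM := hd.trans (Subgroup.card_dvd_of_le hXM)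
  have hY7 : s7 ∣ Nat.card Y :=
    hXY h7.pr (h7.ne_two hp hf (by omega)) (h7.not_dvd_f hp hf (by omega)) (h7.not_dvd_succ hf (by omega))
      (h7.dvd_psu hp hf (by omega) (by decide) (by omega) hF)
      fun h1 => nine_coatom hres hp hf hF hl h7 hM hdM (h1.trans (Subgroup.card_dvd_of_le hXM))
  have hYt : t ∣ Nat.card Y :=
    hXY ht.pr ht.ne_two ht.not_dvd_f (ht.not_dvd_succ (by omega)) (ht.dvd_psu (by omega) (by omega) hF)
      fun h1 => nine_coatom_ev hres hp hf hF hq2 hl ht hM hdM (h1.trans (Subgroup.card_dvd_of_le hXM))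
  -- the second factor
  set H := Y.comap (pr : SU (8 + 1) F (p ^ f) →* _) with hH
  obtain ⟨M', hM', hYM⟩ := (eq_top_or_exists_le_coatom Y).resolve_left h.neY
  have hHM : H ≤ M'.comap pr := fun g hg => hYM hg
  obtain ⟨g, hg, hgs, hg1, hgo⟩ := exists_elt_pr ht.pr hYt
  have h6 := fx_dim_neg hF ht.pr htq hgs hg1
  rw [ht.ord] at h6
  obtain ⟨W, hW1, hWnd, hWH⟩ : ∃ W : Submodule F (Fin (8 + 1) → F), finrank F W = 1 ∧ ND (p ^ f) W ∧ InvA H W := by
    have hndg := nd_fx (a := 1) hF ht.pr htq (by rw [pow_one]; exact hgs)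
    have key : ∀ W : Submodule F (Fin (8 + 1) → F), W ≠ ⊥ → finrank F W < 4 → pre M' ≤ subspaceStabilizer W →
        ∃ W : Submodule F (Fin (8 + 1) → F), finrank F W = 1 ∧ ND (p ^ f) W ∧ InvA H W := by
      intro W hW0 hW hle
      have hWH : InvA H W := (inv_of_pre hle).mono hHM
      have h5 : W ≤ fx g := le_fx (a := 1) ht.pr htO (by rw [pow_one]; exact hgs) (hWH g hg) (by omega)
      have hpos : finrank F W ≠ 0 := fun h => hW0 (Submodule.finrank_eq_zero.1 h)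
      have h7 := Submodule.finrank_mono h5
      have h8 : W = fx g := Submodule.eq_of_le_of_finrank_le h5 (by omega)
      exact ⟨W, by omega, by rw [h8]; exact hndg, hWH⟩
    rcases geo_over_pre hF hp rfl hf h7.pr h7.iff ho7 (by decide) (by norm_num) (by norm_num) (by omega) hM'.1
      (hY7.trans (Subgroup.card_dvd_of_le hYM)) with
      ⟨W, hW0, -, hW, hle⟩ | ⟨W, hW0, -, -, hW, hle⟩ | ⟨r, K, hr, -, hr9, hr7, -, -⟩ | hMr
    · exact key W hW0 (by omega) hle
    · exact key W hW0 (by omega) hle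
    · exfalso
      have h1 : r ∣ 9 - 7 := Nat.dvd_sub hr9 hr7
      have h2 := (Nat.prime_dvd_prime_iff_eq hr Nat.prime_two).1 h1
      subst h2
      norm_num at hr7
    · exact absurd (hY7.trans (Subgroup.card_dvd_of_le hYM)) (nine_res hres hp hf hF h7 hM' hMr)
  obtain ⟨w, hww, hwW⟩ := exists_span hW1 hWnd
  obtain ⟨ι, hι, hιr⟩ := exists_iota hF hww
  have hB : H.comap ι = ⊤ := by
    have hto : ∀ {s e : ℕ}, s.Prime → orderOf ((Nat.card F : ℕ) : ZMod s) = e → 1 < e → s ∣ Nat.card Y →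
        s ∣ Nat.card (H.comap ι) := by
      intro s e hs hso he hsd
      obtain ⟨g, hg, hgs, hg1, hgo⟩ := exists_elt_pr hs hsd
      have hgw := fix_of_line (a := 1) hs hso he hWH hW1 hg (by rw [pow_one]; exact hgs) hwW
      obtain ⟨z, rfl⟩ := (hιr g).1 hgw
      rw [orderOf_injective ι hι] at hgo
      rw [← hgo]
      exact Subgroup.orderOf_dvd_natCard _ hg
    exact eight_top hres8 hp hf hF h7 ht (hto h7.pr (h7.card_ord hp hf (by omega) (by decide) hF) (by omega) hY7)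
      (hto ht.pr htO (by omega) hYt)
  refine ⟨w, hww, fun g hg => ?_⟩
  obtain ⟨y, rfl⟩ := (hιr g).1 hg
  have : y ∈ H.comap ι := by rw [hB]; trivial
  exact this

theorem core_nine (hres8 : Res8 F (p ^ f)) (hres : Res9 F (p ^ f)) (hp : p.Prime) (hf : 1 ≤ f)
    (hF : Fintype.card F = (p ^ f) ^ 2) (hq2 : p ^ f ≠ 2) {X Y : Subgroup (PSU 9 F (p ^ f))} (h : Pr p f X Y) :
    Res X ∨ Res Y := by
  obtain ⟨l, hl⟩ := exists_pm (p := p) (f := f) (k := 9) hp hf (by omega) (by decide)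
  rcases h.one hp hf hF hl (by omega) (by decide) (by omega) with hd | hd
  · exact Or.inr (nine_case hres8 hres hp hf hF hq2 h hl hd)
  · exact Or.inl (nine_case hres8 hres hp hf hF hq2 h.symm hl hd)

theorem card_psu_nine_two (hF : Fintype.card F = 2 ^ 2) : (2 + 1) * Nat.card (PSU 9 F 2) ≤ 2 ^ 101 := by
  have h0 := S0280.result (F := F) hF 9 (by norm_num)
  have h1 : Nat.gcd 9 (2 + 1) = 3 := by norm_num
  have h2 : (2 + 1) * Nat.card (PSU 9 F 2) ≤ Nat.gcd 9 (2 + 1) * ((2 + 1) * Nat.card (PSU 9 F 2)) := by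
    rw [h1]
    omega
  refine h2.trans ?_
  rw [h0]
  simp only [Finset.prod_range_succ, Finset.prod_range_zero]
  norm_num [Nat.even_iff]

/-- **One factor contains the stabiliser of a nonsingular vector (`N ≥ 9`).** -/
theorem top_psu_nine {N q : ℕ} {G : Type*} [Group G] [Finite G] {T X Y : Subgroup G}
    (hP : Cfsg.Agent.H659.CovCore.S5948Stmt.{0}) (hres : Res9 F q) (hres8 : Res8 F q)
    (h : Fac T X Y) (hF : Fintype.card F = q ^ 2) (hN : 9 ≤ N) (e : T ≃* PSU N F q) :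
    (∃ w : Fin N → F, hermForm N F q w w ≠ 0 ∧
      ∀ g : SU N F q, act g w = w → ((e.symm (pr g) : T) : G) ∈ X) ∨
    (∃ w : Fin N → F, hermForm N F q w w ≠ 0 ∧
      ∀ g : SU N F q, act g w = w → ((e.symm (pr g) : T) : G) ∈ Y) := by
  rcases Nat.lt_or_ge 9 N with hN' | hN'
  · exact top_psu hP hres h hF hN' e
  obtain rfl : N = 9 := le_antisymm hN' hN
  have hex : q ≠ 2 := by
    rintro rfl
    have h1 := h.large
    rw [Nat.card_congr e.toEquiv] at h1
    exact aux_ten fac_29 (card_psu_nine_two hF) h1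
  obtain ⟨p, f, hp, hf, rfl, -⟩ := H251.GeoU.exists_prime_power hF
  have hpr := pr_of_fac h hp hf hF (by omega) (by omega) e
  have key : ∀ {Z : Subgroup G}, Res (img e Z) → ∃ w : Fin 9 → F, hermForm 9 F (p ^ f) w w ≠ 0 ∧
      ∀ g : SU 9 F (p ^ f), act g w = w → ((e.symm (pr g) : T) : G) ∈ Z := by
    rintro Z ⟨w, hw, hg⟩
    refine ⟨w, hw, fun g hgw => ?_⟩
    rw [← mem_img e, e.apply_symm_apply]
    exact hg g hgw
  rcases core_nine hres8 hres hp hf hF hex hpr with h1 | h1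
  · exact Or.inl (key h1)
  · exact Or.inr (key h1)

end Cfsg.Agent.H89.Reg
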