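import Cfsg.Agent.H89.Reg.Res
import Cfsg.Agent.H89.Reg.Nine
import Cfsg.Agent.H997.Rg.UH
import Cfsg.Agent.H533.Reg.Idx

/-!
# S3691: the row `PSU_N(q)`

* `fu` : the residual case (F-U) is impossible, `N ≥ 4`;
* `psu_ge_nine` : no exact factorization with socle `PSU_N(q)`, `N ≥ 9`;
* `no_psu` : the same, `N ≥ 3` (small degrees: helper533);
* `row_psu` : the row.
-/

set_option autoImplicit false
set_option linter.unusedSectionVars false

namespace Cfsg.Agent.H89.Reg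

open Cfsg Cfsg.Geo Module Matrix
open Cfsg.Agent.LieClassical.HermBasic Cfsg.Agent.ClassicalGeometry.HermOrtho
open Cfsg.Agent.LieClassical.HermSiegel (act mat act_mul act_one act_inv_act act_act_inv herm_act act_smul act_add)
open Cfsg.Agent.H454.Reg
open Cfsg.Agent.H674.SUBlock (pr pr_surjective)
open Cfsg.Agent.H779.DP (rho rho_apply rho_injective)

universe u

variable {F : Type} [Field F] [Fintype F] {N p f : ℕ} {G : Type u} [Group G] [Finite G] {T X Y : Subgroup G}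

theorem szl {q : ℕ} (h : Fac T X Y) (hF : Fintype.card F = q ^ 2) (hN : 3 ≤ N) (e : T ≃* PSU N F q) :
    H997.Rg.SzL N q := by
  obtain ⟨h3, h4, h5, h6, h7, h8, h9, h10⟩ := size_res h hF (by omega) e
  refine ⟨h3, h4, h5, h6, h7, h8, fun hle => ?_⟩
  interval_cases N
  · have := h3 rfl; omega
  · have := h4 rfl; omega
  · have := h5 rfl; omega
  · have := h6 rfl; omega
  · have := h7 rfl; omega
  · have := h8 rfl; omega
  · exact h9 rfl
  · exact h10 rfl

/-- **the residual case F-U** -/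
theorem fu (hJ : H997.Rg.OutJ1.{0}) (h : Fac T X Y) (hp : p.Prime) (hf : 1 ≤ f) (hF : Fintype.card F = (p ^ f) ^ 2)
    (hN : 4 ≤ N) (e : T ≃* PSU N F (p ^ f)) {w : Fin N → F} (hw : ResW e Y w) : False := by
  have := Fact.mk hp
  have hchar : CharP F p := charP_of_card_eq_prime_pow (f := f * 2) (by rw [hF, pow_mul])
  have hfin : Finite (SU N F (p ^ f)) := inferInstance
  obtain ⟨a, b, ha, hb, hK⟩ := card_res h hp hf hF (by omega) (by omega) e hw
  refine H997.Rg.fu_abs hJ ((rho N F (p ^ f)).comp ((img e X).comap (pr : SU N F (p ^ f) →* _)).subtype)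
    (rho_injective.comp Subtype.val_injective) hp hf hN (szl h hF (by omega) e)
    (by rw [Nat.card_eq_fintype_card, hF]) (by rw [finrank_fin_fun]) (fpf_res h hp hF (by omega) e hw)
    (hermForm N F (p ^ f)) (fun u v w => herm_add_left u v w) (fun u v w => herm_add_right hF u v w)
    (fun c v w => herm_smul_left c v w) (fun c v w => herm_smul_right c v w) (fun v hv => herm_nondeg hF hv)
    (fun g v w => ?_) ha hb (fun he => ?_) (fun ho => ?_)
  · have h1 : ∀ x : Fin N → F, ((rho N F (p ^ f)).comp ((img e X).comap (pr : SU N F (p ^ f) →* _)).subtype) g x =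
        act (g : SU N F (p ^ f)) x := fun x => rho_apply _ _
    rw [h1, h1]
    exact herm_act _ _ _
  · rw [hK, if_pos he, pow_mul, pow_mul]
  · rw [hK, if_neg (by rw [Nat.not_even_iff_odd]; exact ho), pow_mul, pow_mul]

/-- no exact factorization, `N ≥ 9` -/
theorem psu_ge_nine {q : ℕ} (hJ : H997.Rg.OutJ1.{0}) (hP : Cfsg.Agent.H659.CovCore.S5948Stmt.{0})
    (hres : Cfsg.Agent.H729.CovSU9.Res9 F q) (hres8 : Res8 F q) (h : Fac T X Y) (hF : Fintype.card F = q ^ 2)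
    (hN : 9 ≤ N) (e : T ≃* PSU N F q) : False := by
  obtain ⟨p, f, hp, hf, rfl, -⟩ := H251.GeoU.exists_prime_power hF
  rcases top_psu_nine hP hres hres8 h hF hN e with ⟨w, h1, h2⟩ | ⟨w, h1, h2⟩
  · exact fu hJ h.symm hp hf hF (by omega) e ⟨h1, h2⟩
  · exact fu hJ h hp hf hF (by omega) e ⟨h1, h2⟩

/-- **no exact factorization of an almost simple group with socle `PSU_N(q)`, `N ≥ 3`** -/
theorem no_psu {q : ℕ} (hJ : H997.Rg.OutJ1.{0}) (hP : Cfsg.Agent.H659.CovCore.S5948Stmt.{0})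
    (hres : Cfsg.Agent.H729.CovSU9.Res9 F q) (h3 : H533.Reg.L3) (h4 : H533.Reg.L4) (h5 : H533.Reg.L5)
    (h6 : H533.Reg.L6) (h7 : H533.Reg.L7) (h8 : H533.Reg.L8) (h : Fac T X Y) (hF : Fintype.card F = q ^ 2)
    (hN : 3 ≤ N) (e : T ≃* PSU N F q) : False := by
  rcases Nat.lt_or_ge 8 N with h9 | h9
  · exact psu_ge_nine hJ hP hres (fun H hH hS => h8 q hF H hH hS) h hF h9 e
  obtain ⟨p, f, hp, hf, rfl, -⟩ := H251.GeoU.exists_prime_power hF
  obtain ⟨⟨-, hN4⟩, hw | hw⟩ := H533.Reg.top_small h3 h4 h5 h6 h7 h8 h hp hf hF hN h9 e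
  · obtain ⟨w, hw⟩ := hw
    exact fu hJ h.symm hp hf hF hN4 e hw
  · obtain ⟨w, hw⟩ := hw
    exact fu hJ h hp hf hF hN4 e hw

/-- **the row `PSU_N(q)`** (`htoFac` is `Ex.toFac` of `H454.Reg.NotLe`) -/
theorem row_psu (hJ : H997.Rg.OutJ1.{0}) (hP : Cfsg.Agent.H659.CovCore.S5948Stmt.{0})
    (hres : ∀ (F : Type) [Field F] [Fintype F] (q : ℕ), Fintype.card F = q ^ 2 → Cfsg.Agent.H729.CovSU9.Res9 F q)
    (h3 : H533.Reg.L3) (h4 : H533.Reg.L4) (h5 : H533.Reg.L5) (h6 : H533.Reg.L6) (h7 : H533.Reg.L7) (h8 : H533.Reg.L8)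
    (htoFac : ∀ {G : Type u} [Group G] [Finite G] {T H B : Subgroup G}, Ex T H B → Fac T H B)
    (F : Type) [Field F] [Fintype F] (n q : ℕ) (hF : Fintype.card F = q ^ 2) (hn : 3 ≤ n) : Row.{0, u} (PSU n F q) := by
  rintro G _ _ T H B h ⟨e⟩
  exact (no_psu hJ hP (hres F q hF) h3 h4 h5 h6 h7 h8 (htoFac h) hF hn e).elim

end Cfsg.Agent.H89.Reg
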