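import Cfsg.Agent.H89.Reg.OddB
import Cfsg.Agent.H454.Reg.Tools
import Cfsg.Agent.H548.Crit
import Cfsg.Agent.H183.OutPSU

/-!
# S3691, row `PSU_N(q)`, `N ≥ 11`: one factor contains the stabiliser of a nonsingular vector
-/

set_option autoImplicit false
set_option linter.unusedSectionVars false

namespace Cfsg.Agent.H89.Reg

open Cfsg Cfsg.Agent.H454.Reg Cfsg.Agent.H851.Dg

universe u

variable {F : Type} [Field F] [Fintype F] {N p f : ℕ}

theorem card_out_psu [Fact p.Prime] (hf : 1 ≤ f) (hF : Fintype.card F = (p ^ f) ^ 2) (hN : 3 ≤ N)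
    (h32 : ¬ (N = 3 ∧ p ^ f = 2)) : Nat.card (Out (PSU N F (p ^ f))) = Nat.gcd N (p ^ f + 1) * (2 * f) := by
  obtain ⟨φ, hφ, -, hk⟩ := Cfsg.Agent.H183.OutPSU.out_psu hf rfl hF hN h32
  have hfin : NeZero (2 * f) := ⟨by omega⟩
  rw [← Subgroup.card_mul_index φ.ker, hk, Subgroup.index_ker, MonoidHom.range_eq_top.2 hφ, Subgroup.card_top,
    Nat.card_eq_of_bijective Multiplicative.toAdd Multiplicative.toAdd.bijective, Nat.card_zmod]

/-- the image in `PSU_N(q)` of the intersection with the socle -/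
def img {G : Type u} [Group G] {T : Subgroup G} (e : T ≃* PSU N F (p ^ f)) (X : Subgroup G) :
    Subgroup (PSU N F (p ^ f)) := (X.subgroupOf T).map e.toMonoidHom

theorem card_img {G : Type u} [Group G] {T : Subgroup G} (e : T ≃* PSU N F (p ^ f)) (X : Subgroup G) :
    Nat.card (img e X) = Nat.card (X.subgroupOf T) :=
  Subgroup.card_map_of_injective (f := e.toMonoidHom) e.injective

theorem mem_img {G : Type u} [Group G] {T : Subgroup G} (e : T ≃* PSU N F (p ^ f)) {X : Subgroup G} {t : T} :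
    e t ∈ img e X ↔ (t : G) ∈ X := by
  constructor
  · rintro ⟨s, hs, hst⟩
    have h1 : s = t := e.injective hst
    rw [← h1]
    exact hs
  · intro h
    exact ⟨t, h, rfl⟩

/-- the numerical properties of the factors -/
theorem pr_of_fac {G : Type u} [Group G] [Finite G] {T X Y : Subgroup G} (h : Fac T X Y) (hp : p.Prime) (hf : 1 ≤ f)
    (hF : Fintype.card F = (p ^ f) ^ 2) (hN : 3 ≤ N) (h32 : ¬ (N = 3 ∧ p ^ f = 2)) (e : T ≃* PSU N F (p ^ f)) :
    Pr p f (img e X) (img e Y) := by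
  have := Fact.mk hp
  have hout : Nat.card (Out T) = Nat.gcd N (p ^ f + 1) * (2 * f) := by
    rw [H548.Crit.card_out_congr e, card_out_psu hf hF hN h32]
  have hcT : Nat.card T = Nat.card (PSU N F (p ^ f)) := Nat.card_congr e.toEquiv
  have htop : ∀ {Z : Subgroup G}, ¬ T ≤ Z → img e Z ≠ ⊤ := by
    intro Z hZ h1
    apply hZ
    intro t ht
    have h2 : e ⟨t, ht⟩ ∈ img e Z := by rw [h1]; trivial
    exact (mem_img e).1 h2
  refine ⟨htop h.not_le_left, htop h.not_le_right, ?_, ?_⟩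
  · intro s hs h2 hsf hsq
    rw [card_img, card_img, ← hcT]
    apply h.val_eq
    rw [hout]
    intro h3
    rcases hs.dvd_mul.1 h3 with h4 | h4
    · exact hsq (h4.trans (Nat.gcd_dvd_right _ _))
    · rcases hs.dvd_mul.1 h4 with h5 | h5
      · exact h2 ((Nat.prime_dvd_prime_iff_eq hs Nat.prime_two).1 h5)
      · exact hsf h5
  · intro s hs hcyc h1 h2
    rw [card_img] at h1 h2
    refine h.not_both hs (fun P hP => ?_) h1 h2
    have h3 : IsPGroup s (P.map e.toMonoidHom) := hP.map _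
    have h4 := hcyc _ h3
    have h5 := (Subgroup.equivMapOfInjective P e.toMonoidHom e.injective)
    exact isCyclic_of_injective h5.toMonoidHom h5.injective

/-- **One factor contains the stabiliser of a nonsingular vector (`N ≥ 11`).** -/
theorem top_psu_ge {q : ℕ} (hP : Cfsg.Agent.H659.CovCore.S5948Stmt.{0}) {G : Type u} [Group G] [Finite G]
    {T X Y : Subgroup G} (h : Fac T X Y) (hF : Fintype.card F = q ^ 2) (hN : 11 ≤ N) (e : T ≃* PSU N F q) :
    (∃ w : Fin N → F, hermForm N F q w w ≠ 0 ∧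
      ∀ g : SU N F q, LieClassical.HermSiegel.act g w = w → ((e.symm (H674.SUBlock.pr g) : T) : G) ∈ X) ∨
    (∃ w : Fin N → F, hermForm N F q w w ≠ 0 ∧
      ∀ g : SU N F q, LieClassical.HermSiegel.act g w = w → ((e.symm (H674.SUBlock.pr g) : T) : G) ∈ Y) := by
  obtain ⟨p, f, hp, hf, rfl, -⟩ := H251.GeoU.exists_prime_power hF
  have hpr := pr_of_fac h hp hf hF (by omega) (by omega) e
  have key : ∀ {Z : Subgroup G}, Res (img e Z) → ∃ w : Fin N → F, hermForm N F (p ^ f) w w ≠ 0 ∧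
      ∀ g : SU N F (p ^ f), LieClassical.HermSiegel.act g w = w → ((e.symm (H674.SUBlock.pr g) : T) : G) ∈ Z := by
    rintro Z ⟨w, hw, hg⟩
    refine ⟨w, hw, fun g hgw => ?_⟩
    rw [← mem_img e, e.apply_symm_apply]
    exact hg g hgw
  rcases core hP hp hf hF hN hpr with h1 | h1
  · exact Or.inl (key h1)
  · exact Or.inr (key h1)

end Cfsg.Agent.H89.Reg
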