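import Cfsg.Agent.H89.Reg.Line
import Cfsg.Agent.H89.Reg.Top
import Cfsg.Agent.H997.Rg.Lin
import Cfsg.Agent.H370.Rg.Zsig

/-!
# S3691, row `PSU_N(q)`: the residual case (F-U), plug-in

`Y` contains the stabiliser of a nonsingular vector `w`; `K` is the preimage in `SU_N(q)` of `X ∩ T`.

* `fpf_res` : the elements of `K` of prime order `≠ p` have no nonzero fixed vector;
* `card_res` : `|K| a b = q ^ (N - 1) (q ^ N - (-1) ^ N)`, `a ∣ 2 f (N, q + 1)`, `b ∣ q + 1`;
* `size_res` : the size table.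
-/

set_option autoImplicit false
set_option linter.unusedSectionVars false

namespace Cfsg.Agent.H89.Reg

open Cfsg Cfsg.Geo Module Matrix
open Cfsg.Agent.LieClassical.HermBasic Cfsg.Agent.ClassicalGeometry.HermOrtho
open Cfsg.Agent.LieClassical.HermSiegel (act mat act_mul act_one act_inv_act act_act_inv herm_act act_smul act_add)
open Cfsg.Agent.GpUn (fx mem_fx ND fixG mem_fixG exists_equiv)
open Cfsg.Agent.H454.Reg
open Cfsg.Agent.H674.SUBlock (pr pr_surjective)
open Cfsg.Agent.H779.DP (rho rho_apply rho_injective)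

universe u

section Card

variable {F : Type*} [Field F] [Fintype F] {n q : ℕ}

/-- `|SU_(n+1)(q)|` -/
theorem card_SU_succ (hF : Fintype.card F = q ^ 2) (hn : 1 ≤ n) :
    Nat.card (SU (n + 1) F q) = q ^ n * (if Even n then q ^ (n + 1) + 1 else q ^ (n + 1) - 1) * Nat.card (SU n F q) := by
  have h1 := S0278.result (F := F) hF n hn
  have h2 := S0278.result (F := F) hF (n + 1) (by omega)
  rw [Finset.prod_range_succ] at h2
  have h3 : (n + 1) * (n + 1 - 1) / 2 = n + n * (n - 1) / 2 := by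
    obtain ⟨m, rfl⟩ : ∃ m, n = m + 1 := ⟨n - 1, by omega⟩
    rw [Nat.add_sub_cancel, Nat.add_sub_cancel, show (m + 1 + 1) * (m + 1) = (m + 1) * m + (m + 1) * 2 by ring,
      Nat.add_mul_div_right _ _ (by norm_num)]
    ring
  rw [h3, pow_add] at h2
  have h4 : (q + 1) * Nat.card (SU (n + 1) F q) = (q + 1) *
      (q ^ n * (if Even n then q ^ (n + 1) + 1 else q ^ (n + 1) - 1) * Nat.card (SU n F q)) := by
    rw [h2]
    calc q ^ n * q ^ (n * (n - 1) / 2) * ((∏ i ∈ Finset.range n, (if Even i then q ^ (i + 1) + 1 else q ^ (i + 1) - 1)) *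
          (if Even n then q ^ (n + 1) + 1 else q ^ (n + 1) - 1))
        = q ^ n * (if Even n then q ^ (n + 1) + 1 else q ^ (n + 1) - 1) * (q ^ (n * (n - 1) / 2) *
          (∏ i ∈ Finset.range n, (if Even i then q ^ (i + 1) + 1 else q ^ (i + 1) - 1))) := by ring
      _ = _ := by rw [← h1]; ring
  exact Nat.eq_of_mul_eq_mul_left (Nat.succ_pos q) h4

theorem card_SU_one (hF : Fintype.card F = q ^ 2) : Nat.card (SU 1 F q) = 1 := by
  have h1 := S0278.result (F := F) hF 1 le_rfl
  rw [Finset.prod_range_one] at h1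
  have h2 : (q + 1) * Nat.card (SU 1 F q) = (q + 1) * 1 := by
    rw [h1]
    simp
  exact Nat.eq_of_mul_eq_mul_left (Nat.succ_pos q) h2

theorem one_le_q (hF : Fintype.card F = q ^ 2) : 1 ≤ q := by
  have := LieClassical.HermBasic.two_le hF
  omega

/-- `|SU_n(q)| ≤ q ^ (n ^ 2 - 1)`, odd and even degrees -/
theorem card_SU_le_aux (hF : Fintype.card F = q ^ 2) (m : ℕ) :
    Nat.card (SU (2 * m + 1) F q) ≤ q ^ ((2 * m + 1) ^ 2 - 1) ∧ Nat.card (SU (2 * m + 2) F q) ≤ q ^ ((2 * m + 2) ^ 2 - 1) := by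
  have hq := one_le_q hF
  have key : ∀ {k : ℕ}, Nat.card (SU (2 * k + 1) F q) ≤ q ^ ((2 * k + 1) ^ 2 - 1) →
      Nat.card (SU (2 * k + 2) F q) ≤ q ^ ((2 * k + 2) ^ 2 - 1) := by
    intro k hk
    rw [card_SU_succ hF (by omega), if_neg (by rw [Nat.not_even_iff_odd]; exact ⟨k, rfl⟩)]
    calc q ^ (2 * k + 1) * (q ^ (2 * k + 1 + 1) - 1) * Nat.card (SU (2 * k + 1) F q)
        ≤ q ^ (2 * k + 1) * q ^ (2 * k + 1 + 1) * q ^ ((2 * k + 1) ^ 2 - 1) :=
          Nat.mul_le_mul (Nat.mul_le_mul_left _ (Nat.sub_le _ _)) hk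
      _ = q ^ ((2 * k + 2) ^ 2 - 1) := by
          rw [← pow_add, ← pow_add]
          congr 1
          have h1 : (2 * k + 1) ^ 2 = (2 * k + 1) ^ 2 - 1 + 1 := by
            have : 1 ≤ (2 * k + 1) ^ 2 := Nat.one_le_pow _ _ (by omega)
            omega
          have h2 : (2 * k + 2) ^ 2 = (2 * k + 1) ^ 2 + (4 * k + 3) := by ring
          omega
  induction m with
  | zero =>
    have h1 : Nat.card (SU (2 * 0 + 1) F q) ≤ q ^ ((2 * 0 + 1) ^ 2 - 1) := by
      rw [show 2 * 0 + 1 = 1 from rfl, card_SU_one hF]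
      exact Nat.one_le_pow _ _ hq
    exact ⟨h1, key h1⟩
  | succ m ih =>
    have h1 : Nat.card (SU (2 * (m + 1) + 1) F q) ≤ q ^ ((2 * (m + 1) + 1) ^ 2 - 1) := by
      rw [card_SU_succ hF (by omega), if_pos (by exact ⟨m + 1, by ring⟩), show 2 * (m + 1) = 2 * m + 1 + 1 by ring,
        card_SU_succ hF (by omega), if_neg (by rw [Nat.not_even_iff_odd]; exact ⟨m, rfl⟩)]
      have h2 : (q ^ (2 * m + 1 + 1 + 1) + 1) * (q ^ (2 * m + 1 + 1) - 1) ≤ q ^ (2 * m + 1 + 1 + 1) * q ^ (2 * m + 1 + 1) := by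
        have h3 : 1 ≤ q ^ (2 * m + 1 + 1) := Nat.one_le_pow _ _ hq
        obtain ⟨a, ha⟩ : ∃ a, q ^ (2 * m + 1 + 1) = a + 1 := ⟨_, (Nat.sub_add_cancel h3).symm⟩
        have h4 : q ^ (2 * m + 1 + 1) ≤ q ^ (2 * m + 1 + 1 + 1) := Nat.pow_le_pow_right hq (by omega)
        rw [ha, Nat.add_sub_cancel]
        rw [ha] at h4
        nlinarith
      calc q ^ (2 * m + 1 + 1) * (q ^ (2 * m + 1 + 1 + 1) + 1) *
            (q ^ (2 * m + 1) * (q ^ (2 * m + 1 + 1) - 1) * Nat.card (SU (2 * m + 1) F q))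
          = q ^ (2 * m + 1 + 1) * q ^ (2 * m + 1) * ((q ^ (2 * m + 1 + 1 + 1) + 1) * (q ^ (2 * m + 1 + 1) - 1)) *
            Nat.card (SU (2 * m + 1) F q) := by ring
        _ ≤ q ^ (2 * m + 1 + 1) * q ^ (2 * m + 1) * (q ^ (2 * m + 1 + 1 + 1) * q ^ (2 * m + 1 + 1)) *
            q ^ ((2 * m + 1) ^ 2 - 1) := Nat.mul_le_mul (Nat.mul_le_mul_left _ h2) ih.1
        _ = q ^ ((2 * m + 1 + 1 + 1) ^ 2 - 1) := by
          rw [← pow_add, ← pow_add, ← pow_add, ← pow_add]
          congr 1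
          have h1 : (2 * m + 1) ^ 2 = (2 * m + 1) ^ 2 - 1 + 1 := by
            have : 1 ≤ (2 * m + 1) ^ 2 := Nat.one_le_pow _ _ (by omega)
            omega
          have h2 : (2 * m + 1 + 1 + 1) ^ 2 = (2 * m + 1) ^ 2 + (8 * m + 8) := by ring
          omega
    exact ⟨h1, key h1⟩

theorem card_SU_le (hF : Fintype.card F = q ^ 2) (hn : 1 ≤ n) : Nat.card (SU n F q) ≤ q ^ (n ^ 2 - 1) := by
  rcases Nat.even_or_odd n with ⟨c, hc⟩ | ⟨c, hc⟩
  · obtain ⟨m, rfl⟩ : ∃ m, c = m + 1 := ⟨c - 1, by omega⟩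
    have hn : n = 2 * m + 2 := by omega
    subst hn
    exact (card_SU_le_aux hF m).2
  · subst hc
    exact (card_SU_le_aux hF c).1

/-- the order of the preimage -/
theorem card_comap_pr (X : Subgroup (PSU n F q)) :
    Nat.card (X.comap (pr : SU n F q →* _)) = Nat.card (Subgroup.center (SU n F q)) * Nat.card X := by
  have hfin : Finite (SU n F q) := inferInstance
  have hfin2 : Finite (PSU n F q) := Quotient.finite _
  have h1 := (X.comap (pr : SU n F q →* _)).card_mul_index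
  have h2 := X.card_mul_index
  have h3 : (X.comap (pr : SU n F q →* _)).index = X.index := Subgroup.index_comap_of_surjective X pr_surjective
  have h4 : Nat.card (Subgroup.center (SU n F q)) * Nat.card (PSU n F q) = Nat.card (SU n F q) :=
    Subgroup.card_mul_index _
  have hpos : 0 < X.index := Nat.pos_of_ne_zero Subgroup.index_ne_zero_of_finite
  apply Nat.eq_of_mul_eq_mul_right hpos
  rw [← h3, h1, ← h4, ← h2, h3]
  ring

/-! ### the stabiliser of a nonsingular line -/

/-- the stabiliser of a vector -/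
def fixV (q : ℕ) (w : Fin n → F) : Subgroup (SU n F q) where
  carrier := {g | act g w = w}
  mul_mem' {a b} ha hb := by
    change act (a * b) w = w
    rw [act_mul, show act b w = w from hb, show act a w = w from ha]
  one_mem' := act_one w
  inv_mem' {a} ha := by
    change act a⁻¹ w = w
    conv_lhs => rw [← show act a w = w from ha]
    exact act_inv_act a w

theorem mem_fixV {w : Fin n → F} {g : SU n F q} : g ∈ fixV q w ↔ act g w = w := Iff.rfl

/-- a finite subgroup of the multiplicative group, all elements of which satisfy `x ^ m = 1` -/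
theorem card_dvd_of_pow {K : Type*} [Field K] [Finite K] (R : Subgroup Kˣ) {m : ℕ} (h : ∀ x ∈ R, x ^ m = 1) :
    Nat.card R ∣ m := by
  obtain ⟨g, hg⟩ := IsCyclic.exists_generator (α := R)
  rw [← orderOf_eq_card_of_forall_mem_zpowers hg]
  apply orderOf_dvd_of_pow_eq_one
  apply Subtype.ext
  exact h g g.2

/-- the order of a group between the stabiliser of a nonsingular vector and the stabiliser of its line -/
theorem card_between (hF : Fintype.card F = q ^ 2) (hn : 3 ≤ n) {A : Subgroup (SU n F q)}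
    (hZ : Subgroup.center (SU n F q) ≤ A) {w : Fin n → F} (hw : hermForm n F q w w ≠ 0)
    (hS : ∀ g : SU n F q, act g w = w → g ∈ A) (hA : ∀ g ∈ A, ∃ c : F, act g w = c • w) :
    ∃ b, b ∣ q + 1 ∧ Nat.card A = Nat.card (fixV q w) * (Nat.card (Subgroup.center (SU n F q)) * b) := by
  have hfin : Finite (SU n F q) := inferInstance
  have hval : ∀ {g : SU n F q} {c : F}, act g w = c • w → hermForm n F q (act g w) w / hermForm n F q w w = c := by
    intro g c h
    rw [h, herm_smul_left, mul_div_cancel_right₀ _ hw]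
  let χ : A →* F :=
    { toFun := fun g => hermForm n F q (act (g : SU n F q) w) w / hermForm n F q w w
      map_one' := by
        rw [Subgroup.coe_one, act_one, div_self hw]
      map_mul' := fun g h => by
        obtain ⟨c, hc⟩ := hA g g.2
        obtain ⟨d, hd⟩ := hA h h.2
        rw [hval hc, hval hd]
        apply hval
        rw [Subgroup.coe_mul, act_mul, hd, act_smul, hc, smul_smul, mul_comm] }
  have hχ : ∀ g : A, act (g : SU n F q) w = χ g • w := by
    intro g
    obtain ⟨c, hc⟩ := hA g g.2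
    rw [hc]
    congr 1
    exact (hval hc).symm
  have hχn : ∀ g : A, χ g ^ (q + 1) = 1 := by
    intro g
    have h1 := herm_act (g : SU n F q) w w
    rw [hχ, herm_smul_left, herm_smul_right, ← mul_assoc, ← pow_succ'] at h1
    exact (mul_eq_right₀ hw).1 h1
  have hker : χ.toHomUnits.ker = (fixV q w).subgroupOf A := by
    ext g
    rw [MonoidHom.mem_ker, Subgroup.mem_subgroupOf, mem_fixV, hχ]
    constructor
    · intro h
      have h1 : χ g = 1 := by
        have := congrArg (fun u : Fˣ => (u : F)) h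
        exact this
      rw [h1, one_smul]
    · intro h
      apply Units.ext
      change χ g = 1
      by_contra h1
      have h2 : (χ g - 1) • w = 0 := by rw [sub_smul, h, one_smul, sub_self]
      rcases smul_eq_zero.1 h2 with h3 | h3
      · exact h1 (sub_eq_zero.1 h3)
      · exact ne_zero_of_ns hw h3
  have hSA : fixV q w ≤ A := hS
  have h1 : Nat.card A = Nat.card (fixV q w) * Nat.card χ.toHomUnits.range := by
    rw [← Subgroup.card_mul_index χ.toHomUnits.ker, Subgroup.index_ker, hker,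
      Nat.card_congr (Subgroup.subgroupOfEquivOfLe hSA).toEquiv]
  have h2 : Nat.card χ.toHomUnits.range ∣ q + 1 := by
    apply card_dvd_of_pow
    rintro _ ⟨g, rfl⟩
    apply Units.ext
    exact hχn g
  have h3 : Nat.card (Subgroup.center (SU n F q)) ∣ Nat.card χ.toHomUnits.range := by
    have h4 : Function.Injective (χ.toHomUnits.comp (Subgroup.inclusion hZ)) := by
      rw [injective_iff_map_eq_one]
      intro z hz
      have h5 : Subgroup.inclusion hZ z ∈ χ.toHomUnits.ker := hz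
      rw [hker, Subgroup.mem_subgroupOf, mem_fixV] at h5
      obtain ⟨c, -, -, hc⟩ := Cfsg.Agent.ClassicalGeometry.PSUAutBasic.exists_scalar_of_mem_center hF hn z.2
      have h6 : act (z : SU n F q) w = w := h5
      rw [hc] at h6
      have h7 : c = 1 := by
        by_contra h8
        have h9 : (c - 1) • w = 0 := by rw [sub_smul, h6, one_smul, sub_self]
        rcases smul_eq_zero.1 h9 with h10 | h10
        · exact h8 (sub_eq_zero.1 h10)
        · exact ne_zero_of_ns hw h10
      apply Subtype.ext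
      apply Cfsg.Agent.ClassicalGeometry.UnitTransv.ext_act
      intro x
      have h8 : act (z : SU n F q) x = x := by rw [hc, h7, one_smul]
      exact h8.trans (act_one x).symm
    have h5 : Nat.card (Subgroup.center (SU n F q)) = Nat.card (χ.toHomUnits.comp (Subgroup.inclusion hZ)).range :=
      Nat.card_congr (Equiv.ofInjective _ h4)
    rw [h5]
    apply Subgroup.card_dvd_of_le
    rintro _ ⟨z, rfl⟩
    exact ⟨_, rfl⟩
  obtain ⟨b, hb⟩ := h3
  refine ⟨b, (Dvd.intro_left _ hb.symm).trans h2, ?_⟩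
  rw [h1, hb]

end Card

theorem card_fixV {F : Type} [Field F] [Fintype F] {n q : ℕ} (hF : Fintype.card F = q ^ 2) {w : Fin (n + 1) → F} (hw : hermForm (n + 1) F q w w ≠ 0) :
    Nat.card (fixV q w) = Nat.card (SU n F q) := by
  obtain ⟨ι, hι, hιr⟩ := exists_iota hF hw
  have h1 : fixV q w = ι.range := by
    ext g
    exact hιr g
  rw [h1]
  exact (Nat.card_congr (Equiv.ofInjective ι hι)).symm

section Plug

variable {F : Type} [Field F] [Fintype F] {N p f : ℕ} {G : Type u} [Group G] [Finite G] {T X Y : Subgroup G}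

/-- `Z` contains the stabiliser of the nonsingular vector `w` -/
def ResW (e : T ≃* PSU N F (p ^ f)) (Z : Subgroup G) (w : Fin N → F) : Prop :=
  hermForm N F (p ^ f) w w ≠ 0 ∧ ∀ g : SU N F (p ^ f), act g w = w → ((e.symm (pr g) : T) : G) ∈ Z

theorem center_le_comap (Z : Subgroup (PSU N F (p ^ f))) :
    Subgroup.center (SU N F (p ^ f)) ≤ Z.comap (pr : SU N F (p ^ f) →* _) := by
  intro z hz
  have h1 : pr z = 1 := (Cfsg.Agent.H674.SUBlock.pr_eq_one_iff z).2 hz
  change pr z ∈ Z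
  rw [h1]
  exact Z.one_mem

/-- **the order of the residual factor** -/
theorem card_res (h : Fac T X Y) (hp : p.Prime) (hf : 1 ≤ f) (hF : Fintype.card F = (p ^ f) ^ 2) (hN : 3 ≤ N)
    (h32 : ¬ (N = 3 ∧ p ^ f = 2)) (e : T ≃* PSU N F (p ^ f)) {w : Fin N → F} (hw : ResW e Y w) :
    ∃ a b, a ∣ 2 * f * Nat.gcd N (p ^ f + 1) ∧ b ∣ p ^ f + 1 ∧
      Nat.card ((img e X).comap (pr : SU N F (p ^ f) →* _)) * (a * b) =
        (p ^ f) ^ (N - 1) * (if Even N then (p ^ f) ^ N - 1 else (p ^ f) ^ N + 1) := by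
  have := Fact.mk hp
  have hfin : Finite (SU N F (p ^ f)) := inferInstance
  obtain ⟨a, -, ha, hcard⟩ := h.card0
  have hout : Nat.card (Out T) = Nat.gcd N (p ^ f + 1) * (2 * f) := by
    rw [H548.Crit.card_out_congr e, card_out_psu hf hF hN h32]
  rw [hout, mul_comm] at ha
  rw [← card_img e X, ← card_img e Y, Nat.card_congr e.toEquiv] at hcard
  set L := (img e Y).comap (pr : SU N F (p ^ f) →* _) with hL
  have hYt : img e Y ≠ ⊤ := (pr_of_fac h hp hf hF hN h32 e).neY
  have hLt : L ≠ ⊤ := comap_ne_top hYt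
  have hS : ∀ g : SU N F (p ^ f), act g w = w → g ∈ L := by
    intro g hg
    change pr g ∈ img e Y
    have h1 := (mem_img e (X := Y) (t := e.symm (pr g))).2 (hw.2 g hg)
    rwa [e.apply_symm_apply] at h1
  obtain ⟨b, hb, hLc⟩ := card_between hF hN (center_le_comap (img e Y)) hw.1 hS (line_of_stab hF hN h32 hLt hw.1 hS)
  refine ⟨a, b, ha, hb, ?_⟩
  obtain ⟨n, rfl⟩ : ∃ n, N = n + 1 := ⟨N - 1, by omega⟩
  rw [card_fixV hF hw.1, card_comap_pr] at hLc
  have hS1 := card_SU_succ hF (n := n) (by omega)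
  have h4 : Nat.card (Subgroup.center (SU (n + 1) F (p ^ f))) * Nat.card (PSU (n + 1) F (p ^ f)) =
      Nat.card (SU (n + 1) F (p ^ f)) := Subgroup.card_mul_index _
  have hpos : 0 < Nat.card (Subgroup.center (SU (n + 1) F (p ^ f))) := Nat.card_pos
  have hpos2 : 0 < Nat.card (SU n F (p ^ f)) := Nat.card_pos
  rw [card_comap_pr, Nat.add_sub_cancel]
  have hite : (if Even (n + 1) then (p ^ f) ^ (n + 1) - 1 else (p ^ f) ^ (n + 1) + 1) =
      (if Even n then (p ^ f) ^ (n + 1) + 1 else (p ^ f) ^ (n + 1) - 1) := by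
    by_cases hn : Even n
    · rw [if_pos hn, if_neg (by rw [Nat.even_add_one, not_not]; exact hn)]
    · rw [if_neg hn, if_pos (by rw [Nat.even_add_one]; exact hn)]
  rw [hite]
  -- `|Z| |X0| a b |SU_n| |Z| = |Z| |X0| a |L| = ...`
  apply Nat.eq_of_mul_eq_mul_right hpos2
  apply Nat.eq_of_mul_eq_mul_right hpos
  calc Nat.card (Subgroup.center (SU (n + 1) F (p ^ f))) * Nat.card (img e X) * (a * b) * Nat.card (SU n F (p ^ f)) *
        Nat.card (Subgroup.center (SU (n + 1) F (p ^ f)))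
      = Nat.card (Subgroup.center (SU (n + 1) F (p ^ f))) * Nat.card (img e X) * a *
        (Nat.card (SU n F (p ^ f)) * (Nat.card (Subgroup.center (SU (n + 1) F (p ^ f))) * b)) := by ring
    _ = Nat.card (Subgroup.center (SU (n + 1) F (p ^ f))) * Nat.card (Subgroup.center (SU (n + 1) F (p ^ f))) *
        (Nat.card (img e X) * Nat.card (img e Y) * a) := by rw [← hLc]; ring
    _ = Nat.card (Subgroup.center (SU (n + 1) F (p ^ f))) * Nat.card (SU (n + 1) F (p ^ f)) := by
        rw [hcard, mul_assoc, h4]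
    _ = _ := by rw [hS1]; ring

/-- **the elements of prime order `≠ p` of the residual factor are fixed point free** -/
theorem fpf_res (h : Fac T X Y) (hp : p.Prime) (hF : Fintype.card F = (p ^ f) ^ 2) (hN : 3 ≤ N)
    (e : T ≃* PSU N F (p ^ f)) {w : Fin N → F} (hw : ResW e Y w) :
    H997.Rg.Fpf p ((rho N F (p ^ f)).comp ((img e X).comap (pr : SU N F (p ^ f) →* _)).subtype) := by
  intro g hgp hgne v hv
  by_contra hv0
  have hv' : act (g : SU N F (p ^ f)) v = v := by
    have h1 : rho N F (p ^ f) (g : SU N F (p ^ f)) v = v := hv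
    rwa [rho_apply] at h1
  have hgo : orderOf (g : SU N F (p ^ f)) = orderOf g := Subgroup.orderOf_coe g
  have hgs : (g : SU N F (p ^ f)) ^ orderOf g ^ 1 = 1 := by rw [pow_one, ← hgo, pow_orderOf_eq_one]
  have hnd : ¬ orderOf g ∣ p ^ f := fun h1 =>
    hgne ((Nat.prime_dvd_prime_iff_eq hgp hp).1 (hgp.dvd_of_dvd_pow h1))
  have hND := nd_fx (a := 1) hF hgp hnd hgs
  obtain ⟨u, hu, huu⟩ := exists_norm_one_vector hF (fx (g : SU N F (p ^ f))) hND (by
    intro h0
    have h1 : v ∈ fx (g : SU N F (p ^ f)) := hv'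
    rw [h0, Submodule.mem_bot] at h1
    exact hv0 h1)
  have hu' : act (g : SU N F (p ^ f)) u = u := hu
  obtain ⟨x, c, hc0, hxu⟩ := exists_move hF (by omega) (by rw [huu]; exact one_ne_zero) hw.1
  have hfix : act (x * (g : SU N F (p ^ f)) * x⁻¹) w = w := by
    have h1 : w = c⁻¹ • act x u := by rw [hxu, smul_smul, inv_mul_cancel₀ hc0, one_smul]
    rw [h1, act_smul, act_mul, act_mul, act_inv_act, hu']
  have h1 := hw.2 _ hfix
  have h2 : ((e.symm (pr (g : SU N F (p ^ f))) : T) : G) ∈ X := by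
    rw [← mem_img e, e.apply_symm_apply]
    exact g.2
  have h3 : ((e.symm (pr (g : SU N F (p ^ f))) : T) : G) = 1 := by
    refine h.not_conj h2 ((e.symm (pr x) : T) : G) ?_
    have h4 : ((e.symm (pr x) : T) : G) * ((e.symm (pr (g : SU N F (p ^ f))) : T) : G) * ((e.symm (pr x) : T) : G)⁻¹ =
        ((e.symm (pr (x * (g : SU N F (p ^ f)) * x⁻¹)) : T) : G) := by
      rw [map_mul, map_mul, map_mul, map_mul, map_inv, map_inv]
      rfl
    rw [h4]
    exact h1
  have h4 : pr (g : SU N F (p ^ f)) = 1 := by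
    have h5 : e.symm (pr (g : SU N F (p ^ f))) = 1 := Subtype.ext h3
    rw [← e.apply_symm_apply (pr (g : SU N F (p ^ f))), h5, map_one]
  rw [Cfsg.Agent.H674.SUBlock.pr_eq_one_iff] at h4
  obtain ⟨d, -, -, hd⟩ := Cfsg.Agent.ClassicalGeometry.PSUAutBasic.exists_scalar_of_mem_center hF hN h4
  have h5 : act (g : SU N F (p ^ f)) v = d • v := hd v
  rw [hv'] at h5
  have h6 : d = 1 := by
    by_contra h7
    have h8 : (d - 1) • v = 0 := by rw [sub_smul, ← h5, one_smul, sub_self]
    rcases smul_eq_zero.1 h8 with h9 | h9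
    · exact h7 (sub_eq_zero.1 h9)
    · exact hv0 h9
  have h7 : (g : SU N F (p ^ f)) = 1 := by
    apply Cfsg.Agent.ClassicalGeometry.UnitTransv.ext_act
    intro x
    have h8 : act (g : SU N F (p ^ f)) x = x := by
      have h9 : act (g : SU N F (p ^ f)) x = d • x := hd x
      rw [h9, h6, one_smul]
    exact h8.trans (act_one x).symm
  rw [← hgo, h7, orderOf_one] at hgp
  exact Nat.not_prime_one hgp

/-! ### the size table -/

theorem lt_of_fac {q m c : ℕ} (h : 3 * Nat.factorial 29 < q ^ m) (hc : c ^ m ≤ 3 * Nat.factorial 29) : c < q := by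
  by_contra hq
  exact absurd (h.trans_le (Nat.pow_le_pow_left (not_lt.1 hq) m)) (not_lt.2 hc)

theorem large_res {q : ℕ} (h : Fac T X Y) (hF : Fintype.card F = q ^ 2) (hN : 1 ≤ N) (e : T ≃* PSU N F q) :
    3 * Nat.factorial 29 < q ^ (N ^ 2 - 1) := by
  have hfin : Finite (SU N F q) := inferInstance
  refine h.large.trans_le ?_
  rw [Nat.card_congr e.toEquiv]
  refine le_trans ?_ (card_SU_le hF hN)
  exact Nat.card_le_card_of_surjective (pr : SU N F q → _) pr_surjective

/-- **the size table** -/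
theorem size_res {q : ℕ} (h : Fac T X Y) (hF : Fintype.card F = q ^ 2) (hN : 1 ≤ N) (e : T ≃* PSU N F q) :
    (N = 3 → 8471 < q) ∧ (N = 4 → 124 < q) ∧ (N = 5 → 20 < q) ∧ (N = 6 → 7 < q) ∧ (N = 7 → 4 < q) ∧
      (N = 8 → 3 < q) ∧ (N = 9 → 2 < q) ∧ (N = 10 → 2 < q) := by
  have hl := large_res h hF hN e
  refine ⟨?_, ?_, ?_, ?_, ?_, ?_, ?_, ?_⟩
  all_goals
    rintro rfl
    refine lt_of_fac hl ?_
    norm_num [Nat.factorial]

/-! ### primes -/

theorem dvd_card_res {K a b A M g r : ℕ} (hK : K * (a * b) = A * M) (ha : a ∣ 2 * f * Nat.gcd N g) (hb : b ∣ g)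
    (hr : r.Prime) (h2 : r ≠ 2) (hrf : ¬ r ∣ f) (hrq : ¬ r ∣ g) (hM : r ∣ M) : r ∣ K := by
  have h1 : r ∣ K * (a * b) := by rw [hK]; exact Dvd.dvd.mul_left hM _
  rcases hr.dvd_mul.1 h1 with h3 | h3
  · exact h3
  exfalso
  rcases hr.dvd_mul.1 h3 with h4 | h4
  · rcases hr.dvd_mul.1 (h4.trans ha) with h5 | h5
    · rcases hr.dvd_mul.1 h5 with h6 | h6
      · exact h2 ((Nat.prime_dvd_prime_iff_eq hr Nat.prime_two).1 h6)
      · exact hrf h6
    · exact hrq (h5.trans (Nat.gcd_dvd_right _ _))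
  · exact hrq (h4.trans hb)

/-- **the primes of the residual factor** -/
theorem primes_res (h : Fac T X Y) (hp : p.Prime) (hf : 1 ≤ f) (hF : Fintype.card F = (p ^ f) ^ 2) (hN : 3 ≤ N)
    (e : T ≃* PSU N F (p ^ f)) {w : Fin N → F} (hw : ResW e Y w) :
    (Odd N → ∃ r, r.Prime ∧ orderOf ((p : ℕ) : ZMod r) = f * (2 * N) ∧
      r ∣ Nat.card ((img e X).comap (pr : SU N F (p ^ f) →* _))) ∧
    (Even N → ∃ r, r.Prime ∧ orderOf ((p : ℕ) : ZMod r) = f * N ∧
      r ∣ Nat.card ((img e X).comap (pr : SU N F (p ^ f) →* _))) ∧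
    (N % 4 = 2 → ∃ r, r.Prime ∧ orderOf ((p : ℕ) : ZMod r) = f * (N / 2) ∧
      r ∣ Nat.card ((img e X).comap (pr : SU N F (p ^ f) →* _))) := by
  obtain ⟨hs3, -, -, hs6, -⟩ := size_res h hF (by omega) e
  have h32 : ¬ (N = 3 ∧ p ^ f = 2) := by
    rintro ⟨h1, h2⟩
    have := hs3 h1
    omega
  obtain ⟨a, b, ha, hb, hK⟩ := card_res h hp hf hF hN h32 e hw
  have key : ∀ {k : ℕ}, 3 ≤ k → ¬ (p = 2 ∧ f * k = 6) →
      (∀ r : ℕ, r.Prime → (∀ m, r ∣ (p ^ f) ^ m - 1 ↔ k ∣ m) →
        r ∣ (if Even N then (p ^ f) ^ N - 1 else (p ^ f) ^ N + 1)) →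
      ∃ r, r.Prime ∧ orderOf ((p : ℕ) : ZMod r) = f * k ∧
        r ∣ Nat.card ((img e X).comap (pr : SU N F (p ^ f) →* _)) := by
    intro k hk h6 hM
    have hfk : 3 ≤ f * k := by
      have := Nat.mul_le_mul hf hk
      omega
    obtain ⟨r, hr, ho, hlt, -⟩ := H370.Rg.exists_rk hp hfk h6
    refine ⟨r, hr, ho, ?_⟩
    exact dvd_card_res hK ha hb hr (by omega) (H370.Rg.not_dvd_f hr ho (by omega))
      (H370.Rg.not_dvd_q_add hr ho (by omega) hk) (hM r hr (H370.Rg.dvd_q_pow_sub hr ho (by omega)))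
  refine ⟨fun hodd => ?_, fun hev => ?_, fun h4 => ?_⟩
  · refine key (k := 2 * N) (by omega) ?_ ?_
    · rintro ⟨rfl, h6⟩
      have hf1 : f = 1 := by
        by_contra hne
        have := Nat.mul_le_mul (show 2 ≤ f by omega) (show 6 ≤ 2 * N by omega)
        omega
      subst hf1
      exact h32 ⟨by omega, by norm_num⟩
    · intro r hr hiff
      rw [if_neg (by rw [Nat.not_even_iff_odd]; exact hodd)]
      have h1 : r ∣ (p ^ f) ^ (2 * N) - 1 := (hiff _).2 dvd_rfl
      have h2 : (p ^ f) ^ (2 * N) - 1 = ((p ^ f) ^ N + 1) * ((p ^ f) ^ N - 1) := by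
        rw [mul_comm 2 N, pow_mul]
        have := Nat.sq_sub_sq ((p ^ f) ^ N) 1
        rwa [one_pow] at this
      rw [h2] at h1
      refine (hr.dvd_mul.1 h1).resolve_right fun h3 => ?_
      have h4 := Nat.le_of_dvd (by omega) ((hiff N).1 h3)
      omega
  · refine key (k := N) hN ?_ ?_
    · rintro ⟨rfl, h6⟩
      have hf1 : f ≤ 2 := by
        by_contra hne
        have := Nat.mul_le_mul (show 3 ≤ f by omega) (show 3 ≤ N by omega)
        omega
      interval_cases f
      · have := hs6 (by omega)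
        norm_num at this
      · obtain ⟨c, hc⟩ := hev
        omega
    · intro r hr hiff
      rw [if_pos hev]
      exact (hiff N).2 dvd_rfl
  · refine key (k := N / 2) (by omega) ?_ ?_
    · rintro ⟨rfl, h6⟩
      have hf1 : f ≤ 2 := by
        by_contra hne
        have := Nat.mul_le_mul (show 3 ≤ f by omega) (show 3 ≤ N / 2 by omega)
        omega
      interval_cases f
      · omega
      · have := hs6 (by omega)
        norm_num at this
    · intro r hr hiff
      rw [if_pos (Nat.even_iff.2 (by omega))]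
      exact (hiff N).2 ⟨2, by omega⟩

end Plug

end Cfsg.Agent.H89.Reg
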