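import Cfsg.Agent.H89.Reg.Tools
import Cfsg.Agent.H953.Dg.Cyc

/-!
# S3691, row `PSU_N(q)`: pairs of subgroups of `PSU_N(q)`
-/

set_option autoImplicit false
set_option linter.unusedSectionVars false

namespace Cfsg.Agent.H89.Reg

open Cfsg Cfsg.Geo Module Matrix
open Cfsg.Agent.LieClassical.HermBasic Cfsg.Agent.ClassicalGeometry.HermOrtho
open Cfsg.Agent.LieClassical.HermSiegel (act mat act_mul act_one act_inv_act act_act_inv herm_act)
open Cfsg.Agent.H278.Cov Cfsg.Agent.H851.Dg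
open Cfsg.Agent.GpUn (fx mem_fx ND fixG mem_fixG exists_equiv)
open Cfsg.Agent.H674.SUBlock (pr pr_surjective)
open Cfsg.Agent.H251.GeoU (nat_card_eq ord_sq_odd ord_sq_even)

variable {F : Type} [Field F] [Fintype F] {N q p f : ℕ}

/-- `X` contains the image of the stabiliser of a nonsingular vector -/
def Res {q : ℕ} (X : Subgroup (PSU N F q)) : Prop :=
  ∃ w : Fin N → F, hermForm N F q w w ≠ 0 ∧ ∀ g : SU N F q, act g w = w → pr g ∈ X

/-- the intersections of the two factors with the socle -/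
structure Pr (p f : ℕ) (X Y : Subgroup (PSU N F (p ^ f))) : Prop where
  neX : X ≠ ⊤
  neY : Y ≠ ⊤
  val : ∀ s : ℕ, s.Prime → s ≠ 2 → ¬ s ∣ f → ¬ s ∣ p ^ f + 1 →
    (Nat.card X).factorization s + (Nat.card Y).factorization s = (Nat.card (PSU N F (p ^ f))).factorization s
  cyc : ∀ s : ℕ, s.Prime → CycP s (PSU N F (p ^ f)) → s ∣ Nat.card X → s ∣ Nat.card Y → False

theorem Pr.symm {X Y : Subgroup (PSU N F (p ^ f))} (h : Pr p f X Y) : Pr p f Y X :=
  ⟨h.neY, h.neX, fun s h1 h2 h3 h4 => by rw [add_comm]; exact h.val s h1 h2 h3 h4, fun s h1 h2 h3 h4 => h.cyc s h1 h2 h4 h3⟩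

instance finite_psu : Finite (PSU N F q) := Quotient.finite _

theorem comap_ne_top {X : Subgroup (PSU N F q)} (h : X ≠ ⊤) : X.comap pr ≠ ⊤ := by
  intro h1
  apply h
  rw [eq_top_iff]
  intro x _
  obtain ⟨y, rfl⟩ := pr_surjective x
  have : y ∈ X.comap pr := by rw [h1]; trivial
  exact this

theorem card_dvd_comap (X : Subgroup (PSU N F q)) : Nat.card X ∣ Nat.card (X.comap (pr : SU N F q →* _)) := by
  have h1 : (X.comap (pr : SU N F q →* _)).map pr = X := Subgroup.map_comap_eq_self_of_surjective pr_surjective X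
  have h2 := Subgroup.card_dvd_of_surjective ((pr : SU N F q →* _).subgroupMap (X.comap pr))
    (MonoidHom.subgroupMap_surjective _ _)
  rwa [h1] at h2

/-- an element of prime order -/
theorem exists_elt {A : Subgroup (SU N F q)} {s : ℕ} (hs : s.Prime) (h : s ∣ Nat.card A) :
    ∃ g ∈ A, g ^ s = 1 ∧ g ≠ 1 ∧ orderOf g = s := by
  have := Fact.mk hs
  obtain ⟨g, hg⟩ := exists_prime_orderOf_dvd_card' s h
  have h1 : orderOf (g : SU N F q) = s := by rw [Subgroup.orderOf_coe]; exact hg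
  refine ⟨g, g.2, by rw [← h1, pow_orderOf_eq_one], ?_, h1⟩
  intro h2
  rw [h2, orderOf_one] at h1
  exact hs.one_lt.ne h1

theorem exists_elt_pr {X : Subgroup (PSU N F q)} {s : ℕ} (hs : s.Prime) (h : s ∣ Nat.card X) :
    ∃ g ∈ X.comap (pr : SU N F q →* _), g ^ s = 1 ∧ g ≠ 1 ∧ orderOf g = s :=
  exists_elt hs (h.trans (card_dvd_comap X))

theorem lift_order {X : Subgroup (PSU N F q)} {x : PSU N F q} (hx : x ∈ X) {m : ℕ} (hm : orderOf x = m) (hm0 : 0 < m) :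
    ∃ y ∈ X.comap (pr : SU N F q →* _), orderOf y = m := by
  obtain ⟨y, rfl⟩ := pr_surjective x
  have h1 : m ∣ orderOf y := by rw [← hm]; exact orderOf_map_dvd _ _
  refine ⟨y ^ (orderOf y / m), Subgroup.pow_mem _ hx _, orderOf_pow_orderOf_div (orderOf_pos y).ne' h1⟩

/-! ### orders -/

theorem Pm.card_ord {k l : ℕ} (h : Pm p f k l) (hp : p.Prime) (hf : 1 ≤ f) (hk : 1 ≤ k) (hodd : Odd k)
    (hF : Fintype.card F = (p ^ f) ^ 2) : orderOf ((Nat.card F : ℕ) : ZMod l) = k := by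
  rw [nat_card_eq hF]
  exact ord_sq_odd (h.ord hp hf hk hodd) hodd

theorem Ev.card_ord {n s : ℕ} (h : Ev p f n s) (hn : Even n) (hF : Fintype.card F = (p ^ f) ^ 2) :
    orderOf ((Nat.card F : ℕ) : ZMod s) = n / 2 := by
  rw [nat_card_eq hF]
  exact ord_sq_even h.ord hn

theorem Pm.dvd_psu {k l : ℕ} (h : Pm p f k l) (hp : p.Prime) (hf : 1 ≤ f) (hk : 2 ≤ k) (hodd : Odd k) (hkN : k ≤ N)
    (hF : Fintype.card F = (p ^ f) ^ 2) : l ∣ Nat.card (PSU N F (p ^ f)) :=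
  H149.PGU.dvd_card_psu hF (by omega) h.pr hk hkN (h.ord hp hf (by omega) hodd)

theorem Ev.dvd_psu {n s : ℕ} (h : Ev p f n s) (hn : 2 ≤ n) (hnN : n ≤ N)
    (hF : Fintype.card F = (p ^ f) ^ 2) : s ∣ Nat.card (PSU N F (p ^ f)) :=
  H149.PGU.dvd_card_psu hF (by omega) h.pr hn hnN h.ord

/-- prime powers dividing `q ^ (i + 1) - (-1) ^ (i + 1)` divide `|PSU_N(q)|` -/
theorem pow_dvd_psu (hF : Fintype.card F = q ^ 2) {l v i : ℕ} (hl : l.Prime) (hlq : ¬ l ∣ q + 1) (hi : i < N) (hN : 2 ≤ N)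
    (h : l ^ v ∣ (if Even i then q ^ (i + 1) + 1 else q ^ (i + 1) - 1)) : l ^ v ∣ Nat.card (PSU N F q) := by
  have h0 := S0280.result (F := F) hF N hN
  have h1 : l ^ v ∣ Nat.gcd N (q + 1) * ((q + 1) * Nat.card (PSU N F q)) := by
    rw [h0]
    refine Dvd.dvd.mul_left ?_ _
    exact h.trans (Finset.dvd_prod_of_mem (fun i => if Even i then q ^ (i + 1) + 1 else q ^ (i + 1) - 1)
      (Finset.mem_range.2 hi))
  have hc : Nat.Coprime (l ^ v) (q + 1) := Nat.Coprime.pow_left _ ((Nat.Prime.coprime_iff_not_dvd hl).2 hlq)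
  have hc2 : Nat.Coprime (l ^ v) (Nat.gcd N (q + 1)) := Nat.Coprime.coprime_dvd_right (Nat.gcd_dvd_right _ _) hc
  exact hc.dvd_of_dvd_mul_left (hc2.dvd_of_dvd_mul_left h1)

/-- the full cyclic Sylow subgroup -/
theorem exists_full_elt {X Y : Subgroup (PSU N F (p ^ f))} (h : Pr p f X Y) (hp : p.Prime) (hf : 1 ≤ f)
    (hF : Fintype.card F = (p ^ f) ^ 2) (hN : 3 ≤ N) {k l : ℕ} (hl : Gd p f k l) (hodd : Odd k) (hk : 2 ≤ k) (hkN : k ≤ N)
    (hNk : N < 2 * k) (hd : l ∣ Nat.card X) :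
    ∃ x ∈ X.comap (pr : SU N F (p ^ f) →* _), orderOf x = l ^ ((p ^ f) ^ k + 1).factorization l := by
  have hord := hl.toPm.ord hp hf (by omega) hodd
  have hcyc : CycP l (PSU N F (p ^ f)) := H953.Dg.cyc_psu hF hN ⟨hl.pr, by rw [hord]; exact hNk, by rw [hord]; exact hkN⟩
  have hnY : ¬ l ∣ Nat.card Y := fun h1 => h.cyc l hl.pr hcyc hd h1
  have hval := h.val l hl.pr (hl.toPm.ne_two hp hf (by omega)) (hl.toPm.not_dvd_f hp hf (by omega))
    (hl.toPm.not_dvd_succ hf hk)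
  rw [Nat.factorization_eq_zero_of_not_dvd hnY, add_zero] at hval
  set v := ((p ^ f) ^ k + 1).factorization l with hv
  have h1 : l ^ v ∣ Nat.card (PSU N F (p ^ f)) := by
    refine pow_dvd_psu hF hl.pr (hl.toPm.not_dvd_succ hf hk) (i := k - 1) (by omega) (by omega) ?_
    have hev : Even (k - 1) := by
      obtain ⟨c, hc⟩ := hodd
      exact ⟨c, by omega⟩
    rw [if_pos hev, Nat.sub_add_cancel (by omega)]
    exact Nat.ordProj_dvd _ _
  have h2 : l ^ v ∣ Nat.card X := by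
    rw [hl.pr.pow_dvd_iff_le_factorization Nat.card_pos.ne', hval,
      ← hl.pr.pow_dvd_iff_le_factorization Nat.card_pos.ne']
    exact h1
  have := Fact.mk hl.pr
  obtain ⟨K, hK⟩ := Sylow.exists_subgroup_card_pow_prime l h2
  have hKp : IsPGroup l (K.map X.subtype) := by
    rw [IsPGroup.iff_card]
    exact ⟨v, by rw [Subgroup.card_map_of_injective X.subtype_injective, hK]⟩
  have hKc := hcyc _ hKp
  obtain ⟨g, hg⟩ := IsCyclic.exists_generator (α := K.map X.subtype)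
  have hgo : orderOf (g : PSU N F (p ^ f)) = l ^ v := by
    rw [Subgroup.orderOf_coe, orderOf_eq_card_of_forall_mem_zpowers hg,
      Subgroup.card_map_of_injective X.subtype_injective, hK]
  have hgX : (g : PSU N F (p ^ f)) ∈ X := by
    obtain ⟨y, -, hy⟩ := g.2
    rw [← hy]
    exact y.2
  exact lift_order hgX hgo (pow_pos hl.pr.pos _)

/-- a prime not dividing the first factor divides the second -/
theorem Pr.other {X Y : Subgroup (PSU N F (p ^ f))} (h : Pr p f X Y) {s : ℕ} (hs : s.Prime) (h2 : s ≠ 2) (hf : ¬ s ∣ f)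
    (hq : ¬ s ∣ p ^ f + 1) (hd : s ∣ Nat.card (PSU N F (p ^ f))) (hX : ¬ s ∣ Nat.card (X.comap (pr : SU N F (p ^ f) →* _))) :
    s ∣ Nat.card Y := by
  have h1 := h.val s hs h2 hf hq
  rw [Nat.factorization_eq_zero_of_not_dvd fun h3 => hX (h3.trans (card_dvd_comap X)), zero_add] at h1
  have h3 := (hs.dvd_iff_one_le_factorization Nat.card_pos.ne').1 hd
  rw [← h1] at h3
  exact (hs.dvd_iff_one_le_factorization Nat.card_pos.ne').2 h3

theorem Pr.other_pm {X Y : Subgroup (PSU N F (p ^ f))} (h : Pr p f X Y) (hp : p.Prime) (hf : 1 ≤ f)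
    (hF : Fintype.card F = (p ^ f) ^ 2) {k l : ℕ} (hl : Pm p f k l) (hk : 2 ≤ k) (hodd : Odd k) (hkN : k ≤ N)
    (hX : ¬ l ∣ Nat.card (X.comap (pr : SU N F (p ^ f) →* _))) : l ∣ Nat.card Y :=
  h.other hl.pr (hl.ne_two hp hf (by omega)) (hl.not_dvd_f hp hf (by omega)) (hl.not_dvd_succ hf hk)
    (hl.dvd_psu hp hf hk hodd hkN hF) hX

theorem Pr.other_ev {X Y : Subgroup (PSU N F (p ^ f))} (h : Pr p f X Y)
    (hF : Fintype.card F = (p ^ f) ^ 2) {n s : ℕ} (hs : Ev p f n s) (hn : 2 ≤ n) (hnN : n ≤ N)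
    (hX : ¬ s ∣ Nat.card (X.comap (pr : SU N F (p ^ f) →* _))) : s ∣ Nat.card Y :=
  h.other hs.pr hs.ne_two hs.not_dvd_f (hs.not_dvd_succ hn) (hs.dvd_psu hn hnN hF) hX

/-- a good prime divides one of the factors -/
theorem Pr.one {X Y : Subgroup (PSU N F (p ^ f))} (h : Pr p f X Y) (hp : p.Prime) (hf : 1 ≤ f)
    (hF : Fintype.card F = (p ^ f) ^ 2) {k l : ℕ} (hl : Pm p f k l) (hk : 2 ≤ k) (hodd : Odd k) (hkN : k ≤ N) :
    l ∣ Nat.card X ∨ l ∣ Nat.card Y := by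
  have h1 := h.val l hl.pr (hl.ne_two hp hf (by omega)) (hl.not_dvd_f hp hf (by omega)) (hl.not_dvd_succ hf hk)
  have h3 := (hl.pr.dvd_iff_one_le_factorization Nat.card_pos.ne').1 (hl.dvd_psu hp hf hk hodd hkN hF)
  rw [hl.pr.dvd_iff_one_le_factorization Nat.card_pos.ne', hl.pr.dvd_iff_one_le_factorization Nat.card_pos.ne']
  omega

/-! ### points -/

/-- a nondegenerate line is spanned by a nonsingular vector -/
theorem exists_span {W : Submodule F (Fin N → F)} (h1 : finrank F W = 1) (hW : ND q W) :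
    ∃ w : Fin N → F, hermForm N F q w w ≠ 0 ∧ w ∈ W := by
  obtain ⟨w, hw0, hw⟩ := finrank_eq_one_iff'.1 h1
  refine ⟨w, fun h => ?_, w.2⟩
  apply hw0
  apply Subtype.ext
  apply hW w w.2
  intro v hv
  obtain ⟨c, hc⟩ := hw ⟨v, hv⟩
  have h2 : v = c • (w : Fin N → F) := (congrArg Subtype.val hc).symm
  rw [h2, herm_smul_right, h, mul_zero]

end Cfsg.Agent.H89.Reg
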