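import Cfsg.Agent.H89.Reg.Pair

/-!
# S3691, row `PSU_N(q)`, `N ≥ 12` even
-/

set_option autoImplicit false
set_option linter.unusedSectionVars false

namespace Cfsg.Agent.H89.Reg

open Cfsg Cfsg.Geo Module Matrix
open Cfsg.Agent.LieClassical.HermBasic Cfsg.Agent.ClassicalGeometry.HermOrtho
open Cfsg.Agent.LieClassical.HermSiegel (act mat act_mul act_one act_inv_act act_act_inv herm_act)
open Cfsg.Agent.H278.Cov Cfsg.Agent.H851.Dg
open Cfsg.Agent.GpUn (fx mem_fx ND fixG mem_fixG exists_equiv)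
open Cfsg.Agent.H674.SUBlock (pr pr_surjective)
open Cfsg.Agent.H251.GeoU (nat_card_eq ord_sq_odd ord_sq_even)

variable {F : Type} [Field F] [Fintype F] {n p f : ℕ}

theorem dvd_sub_of_gcd {r n k : ℕ} (h : r ∣ Nat.gcd n k) : r ∣ n - k :=
  Nat.dvd_sub (h.trans (Nat.gcd_dvd_left _ _)) (h.trans (Nat.gcd_dvd_right _ _))

theorem pow_full {q : ℕ} {x : SU n F q} {l v : ℕ} (h : orderOf x = l ^ v) : x ^ l ^ v = 1 := by
  rw [← h, pow_orderOf_eq_one]

theorem ne_one_of_num {q : ℕ} {x : SU n F q} {m k : ℕ} (h : Num (q ^ 2) m k (orderOf x)) : x ≠ 1 := by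
  rintro rfl
  have := h.big
  rw [orderOf_one] at this
  omega

/-- `s`-elements fix the vectors of the invariant lines -/
theorem fix_of_line {q : ℕ} {l e a : ℕ} (hl : l.Prime) (he : orderOf ((Nat.card F : ℕ) : ZMod l) = e) (he1 : 1 < e)
    {A : Subgroup (SU n F q)} {W : Submodule F (Fin n → F)} (hW : InvA A W) (h1 : finrank F W = 1) {g : SU n F q}
    (hg : g ∈ A) (hgl : g ^ l ^ a = 1) {w : Fin n → F} (hw : w ∈ W) : act g w = w :=
  le_fx hl he hgl (hW g hg) (by omega) hw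

/-- the even case, the factor containing the primes of order `n = N - 1` -/
theorem even_case (hP : Cfsg.Agent.H659.CovCore.S5948Stmt.{0}) (hp : p.Prime) (hf : 1 ≤ f)
    (hF : Fintype.card F = (p ^ f) ^ 2) (hn : 11 ≤ n) (hodd : Odd n) {X Y : Subgroup (PSU (n + 1) F (p ^ f))}
    (h : Pr p f X Y) {l : ℕ} (hl : Gd p f n l) (hd : l ∣ Nat.card X) : Res X := by
  obtain ⟨c, hc⟩ := hodd
  have hodd : Odd n := ⟨c, hc⟩
  have hfin : Finite (SU (n + 1) F (p ^ f)) := inferInstance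
  set H := X.comap (pr : SU (n + 1) F (p ^ f) →* _) with hH
  have hHt : H ≠ ⊤ := comap_ne_top h.neX
  obtain ⟨x, hx, hxo⟩ := exists_full_elt h hp hf hF (by omega) hl hodd (by omega) (by omega) (by omega) hd
  have hnum : Num ((p ^ f) ^ 2) (n + 1) n (orderOf x) := by
    rw [hxo]; exact hl.num hp hf (by omega) (by omega) (by omega)
  have hxp := pow_full hxo
  have hx1 : x ≠ 1 := ne_one_of_num hnum
  have hlo := hl.toPm.card_ord hp hf (by omega) hodd hF
  have hlq := hl.toPm.not_dvd_q hp hf (by omega)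
  -- the first factor fixes a nonsingular point
  obtain ⟨W, hW1, hW2, hWH⟩ : ∃ W : Submodule F (Fin (n + 1) → F), 1 ≤ finrank F W ∧ 2 * finrank F W ≤ n + 1 ∧
      InvA H W := by
    rcases ogs hP hF hHt hx hnum with ⟨W, h0, h1, h2⟩ | ⟨r, hr, hrd, -⟩
    · exact exists_small hF h0 h1 h2
    · exfalso
      have h2 := dvd_sub_of_gcd hrd
      rw [show n + 1 - n = 1 by omega] at h2
      exact hr.one_lt.ne' (Nat.dvd_one.1 h2)
  have hWfx : W ≤ fx x := le_fx hl.pr hlo hxp (hWH x hx) (by omega)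
  have hfd := fx_dim hl.pr hlo (by omega) hxp hx1
  have hWd : finrank F W = 1 := by
    have := Submodule.finrank_mono hWfx
    omega
  have hWeq : W = fx x := Submodule.eq_of_le_of_finrank_le hWfx (by omega)
  have hnd : ND (p ^ f) W := by rw [hWeq]; exact nd_fx hF hl.pr hlq hxp
  obtain ⟨w, hww, hwW⟩ := exists_span hWd hnd
  obtain ⟨ι, hι, hιr⟩ := exists_iota hF hww
  by_cases hB : H.comap ι = ⊤
  · refine ⟨w, hww, fun g hg => ?_⟩
    obtain ⟨y, rfl⟩ := (hιr g).1 hg
    have : y ∈ H.comap ι := by rw [hB]; trivial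
    exact this
  exfalso
  obtain ⟨y, rfl⟩ := (hιr x).1 (hWfx hwW)
  have hyo : orderOf (ι y) = orderOf y := orderOf_injective ι hι y
  have hyp : y ^ l ^ ((p ^ f) ^ n + 1).factorization l = 1 := pow_full (by rw [← hyo, hxo])
  have hy1 : y ≠ 1 := by
    rintro rfl
    exact hx1 (map_one ι)
  have hnumy : Num ((p ^ f) ^ 2) n n (orderOf y) := by
    rw [← hyo, hxo]; exact hl.num hp hf (by omega) (by omega) (by omega)
  -- the restriction normalises a field
  obtain ⟨r, hr, hrn, hNF⟩ : ∃ r, r.Prime ∧ r ∣ n ∧ NF (H.comap ι) r := by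
    rcases ogs hP hF hB (x := y) hx hnumy with ⟨W', h0, h1, h2⟩ | ⟨r, hr, hrd, h3⟩
    · exfalso
      obtain ⟨W'', h3, h4, h5⟩ := exists_small hF h0 h1 h2
      have h6 := Submodule.finrank_mono (le_fx hl.pr hlo hyp (h5 y hx) (by omega))
      have h7 := fx_dim hl.pr hlo (by omega) hyp hy1
      omega
    · rw [Nat.gcd_self] at hrd
      exact ⟨r, hr, hrd, h3⟩
  have hr2 : r ≠ 2 := by
    rintro rfl
    omega
  have hrle : r ≤ n := Nat.le_of_dvd (by omega) hrn
  have key : ∀ {k s : ℕ}, Odd k → n < 2 * k → ¬ r ∣ k → Pm p f k s → ¬ s ∣ Nat.card H := by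
    intro k s hk hnk hrk hs hsd
    obtain ⟨g, hg, hgs, hg1, hgo⟩ := exists_elt hs.pr hsd
    have hso := hs.card_ord hp hf (by omega) hk hF
    have hgw := fix_of_line (a := 1) hs.pr hso (by omega) hWH hWd hg (by rw [pow_one]; exact hgs) hwW
    obtain ⟨z, rfl⟩ := (hιr g).1 hgw
    have hz : s ∣ Nat.card (H.comap ι) := by
      rw [orderOf_injective ι hι] at hgo
      rw [← hgo]
      exact Subgroup.orderOf_dvd_natCard _ hg
    have hslt := hs.lt hp hf (by omega)
    have hkf : 2 * k * 1 ≤ 2 * k * f := Nat.mul_le_mul_left _ hf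
    obtain ⟨i, hi1, hi2, hi3⟩ := hNF.div hF hr (by omega) hs.pr (hs.not_dvd_q hp hf (by omega)) (by omega) hso hz
    obtain ⟨d, hd⟩ := hi3
    have hd1 : d = 1 := by
      rcases d with _ | _ | d
      · have := hr.pos
        rw [mul_zero] at hd
        rcases Nat.mul_eq_zero.1 hd with h | h <;> omega
      · rfl
      · have : k * 2 ≤ k * (d + 1 + 1) := Nat.mul_le_mul_left _ (by omega)
        omega
    rw [hd1, mul_one] at hd
    exact hrk ⟨i, hd.symm⟩
  have h2 : ¬ r ∣ n - 2 := by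
    intro h1
    have h3 := Nat.dvd_sub hrn h1
    rw [show n - (n - 2) = 2 by omega] at h3
    exact hr2 ((Nat.prime_dvd_prime_iff_eq hr Nat.prime_two).1 h3)
  have h4 : ¬ r ∣ n - 4 := by
    intro h1
    have h3 := Nat.dvd_sub hrn h1
    rw [show n - (n - 4) = 2 ^ 2 by omega] at h3
    exact hr2 ((Nat.prime_dvd_prime_iff_eq hr Nat.prime_two).1 (hr.dvd_of_dvd_pow h3))
  have ho2 : Odd (n - 2) := ⟨c - 1, by omega⟩
  have ho4 : Odd (n - 4) := ⟨c - 2, by omega⟩
  -- the primes of the second factor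
  have hY2 : ∀ {s : ℕ}, Pm p f (n - 2) s → s ∣ Nat.card Y := fun hs =>
    h.other_pm hp hf hF hs (by omega) ho2 (by omega) (key ho2 (by omega) h2 hs)
  have hY4 : ∀ {s : ℕ}, Pm p f (n - 4) s → s ∣ Nat.card Y := fun hs =>
    h.other_pm hp hf hF hs (by omega) ho4 (by omega) (key ho4 (by omega) h4 hs)
  obtain ⟨t, ht⟩ := exists_ev (p := p) (f := f) (n := n + 1) hp hf (by omega)
  have hev : Even (n + 1) := ⟨c + 1, by omega⟩
  have hto := ht.card_ord hev hF
  have htq : ¬ t ∣ p ^ f := Cfsg.Agent.H251.GeoU.not_dvd_of_ord ht.pr ht.ord (by omega)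
  have htY : t ∣ Nat.card Y := by
    refine h.other_ev hF ht (by omega) le_rfl fun htd => ?_
    obtain ⟨g, hg, hgs, hg1, -⟩ := exists_elt ht.pr htd
    have h5 : W ≤ fx g := le_fx (a := 1) ht.pr hto (by rw [pow_one]; exact hgs) (hWH g hg) (by omega)
    have h6 := fx_dim_neg hF ht.pr htq hgs hg1
    rw [ht.ord] at h6
    have := Submodule.finrank_mono h5
    omega
  -- the second factor
  obtain ⟨k', hk'o, hk', l', hl'⟩ : ∃ k', Odd k' ∧ (k' = n - 2 ∧ n ≠ 11 ∨ k' = 7 ∧ n = 11) ∧ ∃ l', Gd p f k' l' := by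
    by_cases h11 : n = 11
    · exact ⟨7, by decide, Or.inr ⟨rfl, h11⟩, exists_gd hp hf (by omega) (by decide) (by omega)⟩
    · exact ⟨n - 2, ho2, Or.inl ⟨rfl, h11⟩, exists_gd hp hf (by omega) ho2 (by omega)⟩
  have hl'Y : l' ∣ Nat.card Y := by
    rcases hk' with ⟨rfl, -⟩ | ⟨rfl, rfl⟩
    · exact hY2 hl'.toPm
    · exact hY4 hl'.toPm
  obtain ⟨x', hx', hxo'⟩ := exists_full_elt h.symm hp hf hF (by omega) hl' hk'o (by omega) (by omega) (by omega) hl'Y
  have hnum' : Num ((p ^ f) ^ 2) (n + 1) k' (orderOf x') := by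
    rw [hxo']; exact hl'.num hp hf (by omega) (by omega) (by omega)
  rcases ogs hP hF (comap_ne_top h.neY) hx' hnum' with ⟨W', h0, h1, h3⟩ | ⟨r', hr', hrd', hNF'⟩
  · obtain ⟨W'', g1, g2, g3⟩ := exists_small hF h0 h1 h3
    obtain ⟨z, hz, hzt, hz1, -⟩ := exists_elt_pr ht.pr htY
    have h6 := fx_dim_neg hF ht.pr htq hzt hz1
    rw [ht.ord] at h6
    have h7 := dvd_dim (a := 1) ht.pr hto (by omega) (by rw [pow_one]; exact hzt) (g3 z hz)
    have h8 : finrank F (W'' ⊓ fx z : Submodule F (Fin (n + 1) → F)) ≤ finrank F (fx z) :=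
      Submodule.finrank_mono inf_le_right
    have h9 := Nat.le_of_dvd (by omega) h7
    obtain ⟨s, hs⟩ := exists_pm (p := p) (f := f) (k := n - 2) hp hf (by omega) ho2
    obtain ⟨y2, hy2, hys, hy21, -⟩ := exists_elt_pr hs.pr (hY2 hs)
    have hso := hs.card_ord hp hf (by omega) ho2 hF
    have h10 := Submodule.finrank_mono (le_fx (a := 1) hs.pr hso (by rw [pow_one]; exact hys) (g3 y2 hy2) (by omega))
    have h11 := fx_dim (a := 1) hs.pr hso (by omega) (by rw [pow_one]; exact hys) hy21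
    omega
  · rcases hk' with ⟨rfl, hn11⟩ | ⟨rfl, rfl⟩
    · have h5 := dvd_sub_of_gcd hrd'
      rw [show n + 1 - (n - 2) = 3 by omega] at h5
      have h6 : r' = 3 := (Nat.prime_dvd_prime_iff_eq hr' Nat.prime_three).1 h5
      subst h6
      have h7 : 3 ∣ n + 1 := hrd'.trans (Nat.gcd_dvd_left _ _)
      obtain ⟨s, hs⟩ := exists_pm (p := p) (f := f) (k := n - 4) hp hf (by omega) ho4
      have hslt := hs.lt hp hf (by omega)
      have hkf : 2 * (n - 4) * 1 ≤ 2 * (n - 4) * f := Nat.mul_le_mul_left _ hf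
      obtain ⟨i, hi1, hi2, hi3⟩ := hNF'.div hF hr' (by omega) hs.pr (hs.not_dvd_q hp hf (by omega)) (by omega)
        (hs.card_ord hp hf (by omega) ho4 hF) ((hY4 hs).trans (card_dvd_comap Y))
      obtain ⟨d, hd⟩ := hi3
      have hd1 : d = 1 := by
        rcases d with _ | _ | d
        · omega
        · rfl
        · have : (n - 4) * 2 ≤ (n - 4) * (d + 1 + 1) := Nat.mul_le_mul_left _ (by omega)
          omega
      rw [hd1, mul_one] at hd
      omega
    · have h5 : Nat.gcd (11 + 1) 7 = 1 := by norm_num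
      rw [h5] at hrd'
      exact hr'.one_lt.ne' (Nat.dvd_one.1 hrd')

end Cfsg.Agent.H89.Reg
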