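import Cfsg.Agent.H89.Reg.Tools
import Cfsg.Agent.H77.Witt
import Cfsg.Agent.ClassicalGeometry.UnitGenTwo

/-!
# S3691, row `PSU_N(q)`: overgroups of the stabiliser of a nonsingular vector

* `exists_move` : `SU_n(q)` is transitive on the nonsingular lines;
* `line_of_stab` : a proper subgroup containing the stabiliser of a nonsingular vector fixes its line.
-/

set_option autoImplicit false
set_option linter.unusedSectionVars false

namespace Cfsg.Agent.H89.Reg

open Cfsg Cfsg.Geo Module Matrix
open Cfsg.Agent.LieClassical.HermBasic Cfsg.Agent.ClassicalGeometry.HermOrtho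
open Cfsg.Agent.LieClassical.HermSiegel (act mat act_mul act_one act_inv_act act_act_inv herm_act act_smul act_add)
open Cfsg.Agent.GpUn (fx mem_fx ND fixG mem_fixG exists_equiv)

variable {F : Type*} [Field F] [Fintype F] {n q : ℕ}

theorem ne_zero_of_ns {w : Fin n → F} (hw : hermForm n F q w w ≠ 0) : w ≠ 0 := by
  rintro rfl
  exact hw (herm_zero_left _)

theorem nd_line {w : Fin n → F} (hw : hermForm n F q w w ≠ 0) : ND q (F ∙ w) := by
  intro u hu h
  obtain ⟨c, rfl⟩ := Submodule.mem_span_singleton.1 hu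
  have h1 := h w (Submodule.mem_span_singleton_self w)
  rw [herm_smul_left] at h1
  rcases mul_eq_zero.1 h1 with h2 | h2
  · rw [h2, zero_smul]
  · exact absurd h2 hw

/-- a nonsingular vector orthogonal to a nondegenerate subspace -/
theorem exists_perp_ns (hF : Fintype.card F = q ^ 2) {W : Submodule F (Fin n → F)} (hW : ND q W)
    (hlt : finrank F W < n) : ∃ z, hermForm n F q z z = 1 ∧ ∀ v ∈ W, hermForm n F q z v = 0 := by
  have h1 := finrank_hermPerp_of_nondeg hF W hW
  obtain ⟨z, hz, hzz⟩ := exists_norm_one_vector hF _ (hermPerp_nondeg hF W hW) (by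
    intro h0
    rw [h0, finrank_bot] at h1
    omega)
  exact ⟨z, hzz, fun v hv => hz v hv⟩

/-- `SU_n(q)` is transitive on the nonsingular lines -/
theorem exists_move (hF : Fintype.card F = q ^ 2) (hn : 2 ≤ n) {v w : Fin n → F} (hv : hermForm n F q v v ≠ 0)
    (hw : hermForm n F q w w ≠ 0) : ∃ (x : SU n F q) (c : F), c ≠ 0 ∧ act x v = c • w := by
  obtain ⟨c, hc0, hc⟩ := exists_norm_eq_ne hF (c := hermForm n F q v v / hermForm n F q w w)
    (by rw [div_pow, herm_self_pow hF, herm_self_pow hF]) (div_ne_zero hv hw)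
  have hww : hermForm n F q (c • w) (c • w) = hermForm n F q v v := by
    rw [herm_smul_left, herm_smul_right, ← mul_assoc, hc, div_mul_cancel₀ _ hw]
  obtain ⟨z, hz, hzw⟩ := exists_perp_ns hF (nd_line hw) (by rw [finrank_span_singleton (ne_zero_of_ns hw)]; omega)
  obtain ⟨g, hg⟩ := Cfsg.Agent.H77.Witt.exists_su_ext hF (k := 1) ![v] ![c • w]
    (linearIndependent_unique_iff.2 (ne_zero_of_ns hv))
    (linearIndependent_unique_iff.2 (smul_ne_zero hc0 (ne_zero_of_ns hw)))
    (by intro i j; fin_cases i; fin_cases j; exact hww.symm) (z := z) (by rw [hz]; exact one_ne_zero)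
    (by
      intro i
      fin_cases i
      exact hzw _ (Submodule.smul_mem _ _ (Submodule.mem_span_singleton_self w)))
  exact ⟨g, c, hc0, hg 0⟩

/-- the stabiliser of a nonsingular vector `w` is transitive on the singular points outside `w^⊥` -/
theorem exists_fix_move (hF : Fintype.card F = q ^ 2) (hn : 3 ≤ n) {w u v : Fin n → F}
    (hu : hermForm n F q u u = 0) (hv : hermForm n F q v v = 0)
    (huw : hermForm n F q u w ≠ 0) (hvw : hermForm n F q v w ≠ 0) :
    ∃ (g : SU n F q) (c : F), act g w = w ∧ act g u = c • v := by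
  set c := hermForm n F q u w / hermForm n F q v w with hc
  have hc0 : c ≠ 0 := div_ne_zero huw hvw
  have hcv : hermForm n F q (c • v) w = hermForm n F q u w := by rw [herm_smul_left, hc, div_mul_cancel₀ _ hvw]
  have hcv' : hermForm n F q (c • v) w ≠ 0 := by rw [hcv]; exact huw
  have hcvv : hermForm n F q (c • v) (c • v) = 0 := by rw [herm_smul_left, herm_smul_right, hv, mul_zero, mul_zero]
  have hwu : ∀ {x : Fin n → F}, hermForm n F q x w ≠ 0 → hermForm n F q w x ≠ 0 := fun h h1 =>
    h (herm_eq_zero_swap hF h1)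
  have hli : ∀ {x : Fin n → F}, hermForm n F q x x = 0 → hermForm n F q x w ≠ 0 →
      LinearIndependent F ![w, x] := by
    intro x hx hxw
    rw [LinearIndependent.pair_iff]
    intro s t hst
    have h1 : hermForm n F q (s • w + t • x) x = 0 := by rw [hst]; exact herm_zero_left _
    rw [herm_add_left, herm_smul_left, herm_smul_left, hx, mul_zero, add_zero] at h1
    have hs : s = 0 := (mul_eq_zero.1 h1).resolve_right (hwu hxw)
    have h2 : hermForm n F q (s • w + t • x) w = 0 := by rw [hst]; exact herm_zero_left _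
    rw [hs, zero_smul, zero_add, herm_smul_left] at h2
    exact ⟨hs, (mul_eq_zero.1 h2).resolve_right hxw⟩
  set W := Submodule.span F (Set.range ![w, c • v]) with hW
  have hwW : w ∈ W := Submodule.subset_span ⟨0, rfl⟩
  have hvW : c • v ∈ W := Submodule.subset_span ⟨1, rfl⟩
  have hWnd : ND q W := by
    intro x hx h
    rw [hW, Matrix.range_cons, Matrix.range_cons, Matrix.range_empty, Set.union_empty, Set.singleton_union,
      Submodule.mem_span_pair] at hx
    obtain ⟨s, t, rfl⟩ := hx
    have h1 := h _ hvW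
    rw [herm_add_left, herm_smul_left, herm_smul_left t, hcvv, mul_zero, add_zero] at h1
    have hs : s = 0 := (mul_eq_zero.1 h1).resolve_right (hwu hcv')
    have h2 := h _ hwW
    rw [hs, zero_smul, zero_add, herm_smul_left] at h2
    rw [hs, (mul_eq_zero.1 h2).resolve_right hcv', zero_smul, zero_smul, add_zero]
  have hWd : finrank F W ≤ 2 := by
    have := finrank_range_le_card (R := F) ![w, c • v]
    rwa [Fintype.card_fin] at this
  obtain ⟨z, hz, hzW⟩ := exists_perp_ns hF hWnd (by omega)
  obtain ⟨g, hg⟩ := Cfsg.Agent.H77.Witt.exists_su_ext hF (k := 2) ![w, u] ![w, c • v] (hli hu huw) (hli hcvv hcv')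
    (by
      intro i j
      fin_cases i <;> fin_cases j
      · rfl
      · change hermForm n F q w u = hermForm n F q w (c • v)
        rw [herm_swap hF u w, herm_swap hF (c • v) w, hcv]
      · exact hcv.symm
      · exact hu.trans hcvv.symm) (z := z) (by rw [hz]; exact one_ne_zero)
    (by
      intro i
      exact hzW _ (Submodule.subset_span ⟨i, rfl⟩))
  exact ⟨g, c, hg 0, hg 1⟩

/-- singular vectors of a nondegenerate space -/
theorem exists_sing (hF : Fintype.card F = q ^ 2) {U : Submodule F (Fin n → F)} (hU : ND q U) (h2 : 2 ≤ finrank F U)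
    {x : Fin n → F} (hx : x ∈ U) (hx0 : x ≠ 0) : ∃ u ∈ U, hermForm n F q u u = 0 ∧ hermForm n F q u x ≠ 0 := by
  by_cases hxx : hermForm n F q x x = 0
  · obtain ⟨y, hy, hxy⟩ : ∃ y ∈ U, hermForm n F q x y ≠ 0 := by
      by_contra hcon
      push Not at hcon
      exact hx0 (hU x hx hcon)
    obtain ⟨τ, hτ⟩ := exists_trace_eq hF (c := -hermForm n F q y y) (by rw [neg_pow_q hF, herm_self_pow hF])
    have hyx : hermForm n F q y x = hermForm n F q x y ^ q := herm_swap hF x y
    refine ⟨y + (τ / hermForm n F q x y) • x, U.add_mem hy (U.smul_mem _ hx), ?_, ?_⟩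
    · rw [herm_add_left, herm_add_right hF, herm_add_right hF, herm_smul_left, herm_smul_left, herm_smul_right,
        herm_smul_right, hxx, mul_zero, mul_zero, add_zero, hyx, div_pow, div_mul_cancel₀ _ (pow_ne_zero _ hxy),
        div_mul_cancel₀ _ hxy]
      linear_combination hτ
    · rw [herm_add_left, herm_smul_left, hxx, mul_zero, add_zero, hyx]
      exact pow_ne_zero _ hxy
  · obtain ⟨y, hy, hyx⟩ : ∃ y ∈ U, y ∉ (F ∙ x) := by
      by_contra hcon
      push Not at hcon
      have h3 : U ≤ F ∙ x := hcon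
      have h4 := Submodule.finrank_mono h3
      rw [finrank_span_singleton hx0] at h4
      omega
    set U' := U ⊓ hermPerp q ((F ∙ x : Submodule F (Fin n → F)) : Set (Fin n → F)) with hU'
    have hdec : ∀ y ∈ U, ∃ y' ∈ U', ∃ t : F, y = y' + t • x := by
      intro y hy
      refine ⟨y - (hermForm n F q y x / hermForm n F q x x) • x, ⟨U.sub_mem hy (U.smul_mem _ hx), ?_⟩, _,
        (sub_add_cancel _ _).symm⟩
      intro v hv
      obtain ⟨c, rfl⟩ := Submodule.mem_span_singleton.1 hv
      rw [sub_eq_add_neg, ← neg_smul, herm_add_left, herm_smul_left, herm_smul_right, herm_smul_right]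
      field_simp
      ring
    have hU'x : ∀ y ∈ U', hermForm n F q y x = 0 := fun y hy => hy.2 x (Submodule.mem_span_singleton_self x)
    have hU'nd : ND q U' := by
      intro a ha h
      apply hU a ha.1
      intro y hy
      obtain ⟨y', hy', t, rfl⟩ := hdec y hy
      rw [herm_add_right hF, h y' hy', herm_smul_right, hU'x a ha, mul_zero, add_zero]
    obtain ⟨z, hz, hzz⟩ := exists_norm_one_vector hF U' hU'nd (by
      intro h0
      obtain ⟨y', hy', t, rfl⟩ := hdec y hy
      rw [h0, Submodule.mem_bot] at hy'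
      rw [hy', zero_add] at hyx
      exact hyx (Submodule.smul_mem _ _ (Submodule.mem_span_singleton_self x)))
    obtain ⟨β, hβ⟩ := exists_norm_eq hF (c := -hermForm n F q x x) (by rw [neg_pow_q hF, herm_self_pow hF])
    have hzx := hU'x z hz
    have hxz := herm_eq_zero_swap hF hzx
    refine ⟨x + β • z, U.add_mem hx (U.smul_mem _ hz.1), ?_, ?_⟩
    · rw [herm_add_left, herm_add_right hF, herm_add_right hF, herm_smul_left, herm_smul_left, herm_smul_right,
        herm_smul_right, hzx, hxz, hzz]
      linear_combination hβ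
    · rw [herm_add_left, herm_smul_left, hzx, mul_zero, add_zero]
      exact hxx

open Cfsg.Agent.ClassicalGeometry.UnitTransv (utv act_utv) in
/-- **Line lemma.** -/
theorem line_of_stab (hF : Fintype.card F = q ^ 2) (hn : 3 ≤ n) (h32 : ¬ (n = 3 ∧ q = 2)) {H : Subgroup (SU n F q)}
    (hH : H ≠ ⊤) {w : Fin n → F} (hw : hermForm n F q w w ≠ 0) (hst : ∀ g : SU n F q, act g w = w → g ∈ H) :
    ∀ g ∈ H, ∃ c : F, act g w = c • w := by
  by_contra hcon
  push Not at hcon
  obtain ⟨h, hh, hhw⟩ := hcon
  apply hH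
  set w2 := act h w with hw2
  have hw2n : hermForm n F q w2 w2 ≠ 0 := by rw [hw2, herm_act]; exact hw
  have hst2 : ∀ g : SU n F q, act g w2 = w2 → g ∈ H := by
    intro g hg
    have h1 : h⁻¹ * g * h ∈ H := by
      apply hst
      rw [act_mul, act_mul, ← hw2, hg, hw2, act_inv_act]
    have h2 := H.mul_mem (H.mul_mem hh h1) (H.inv_mem hh)
    have h3 : h * (h⁻¹ * g * h) * h⁻¹ = g := by group
    rwa [h3] at h2
  -- a singular vector orthogonal to `w2`, not to `w`
  obtain ⟨u0, hu0, hu02, hu0w⟩ : ∃ u0 : Fin n → F, hermForm n F q u0 u0 = 0 ∧ hermForm n F q w2 u0 = 0 ∧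
      hermForm n F q u0 w ≠ 0 := by
    set U := hermPerp q ((F ∙ w2 : Submodule F (Fin n → F)) : Set (Fin n → F)) with hU
    have hUnd : ND q U := hermPerp_nondeg hF _ (nd_line hw2n)
    have hUd := finrank_hermPerp_of_nondeg hF _ (nd_line hw2n)
    rw [finrank_span_singleton (ne_zero_of_ns hw2n), ← hU] at hUd
    set t := hermForm n F q w w2 / hermForm n F q w2 w2 with ht
    set x := w - t • w2 with hx
    have hxU : x ∈ U := by
      intro v hv
      obtain ⟨c, rfl⟩ := Submodule.mem_span_singleton.1 hv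
      rw [hx, sub_eq_add_neg, ← neg_smul, herm_add_left, herm_smul_left, herm_smul_right, herm_smul_right, ht]
      field_simp
      ring
    have hx0 : x ≠ 0 := by
      intro h0
      have h1 : w = t • w2 := sub_eq_zero.1 h0
      have ht0 : t ≠ 0 := by
        intro h2
        rw [h2, zero_smul] at h1
        exact ne_zero_of_ns hw h1
      apply hhw t⁻¹
      rw [h1, smul_smul, inv_mul_cancel₀ ht0, one_smul]
    obtain ⟨u, hu, huu, hux⟩ := exists_sing hF hUnd (by omega) hxU hx0
    have huw2 : hermForm n F q u w2 = 0 := hu w2 (Submodule.mem_span_singleton_self w2)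
    refine ⟨u, huu, herm_eq_zero_swap hF huw2, ?_⟩
    have h1 : w = x + t • w2 := (sub_add_cancel _ _).symm
    rw [h1, herm_add_right hF, herm_smul_right, huw2, mul_zero, add_zero]
    exact hux
  -- all transvections
  have hT : Cfsg.Agent.ClassicalGeometry.UnitGen.T F n q ≤ H := by
    unfold Cfsg.Agent.ClassicalGeometry.UnitGen.T
    rw [Subgroup.closure_le]
    rintro A ⟨u, c, hu, hA⟩
    rcases Cfsg.Agent.ClassicalGeometry.UnitTransv.eq_one_or_utv hF hu hA with rfl | ⟨-, hc, rfl⟩
    · exact H.one_mem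
    have hact : ∀ x : Fin n → F, act (utv hF u c hu hc) x = x + (c * hermForm n F q x u) • u := fun x =>
      act_utv hF hu hc x
    by_cases huw : hermForm n F q u w = 0
    · apply hst
      rw [hact, herm_eq_zero_swap hF huw, mul_zero, zero_smul, add_zero]
    · obtain ⟨g, c', hgw, hgu⟩ := exists_fix_move hF hn hu hu0 huw hu0w
      have hg : g ∈ H := hst g hgw
      have h1 : g * utv hF u c hu hc * g⁻¹ ∈ H := by
        apply hst2
        have h2 : hermForm n F q (act g⁻¹ w2) u = 0 := by
          rw [← herm_act g, act_act_inv, hgu, herm_smul_right, hu02, mul_zero]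
        rw [act_mul, act_mul, hact, h2, mul_zero, zero_smul, add_zero, act_act_inv]
      have h2 := H.mul_mem (H.mul_mem (H.inv_mem hg) h1) hg
      have h3 : g⁻¹ * (g * utv hF u c hu hc * g⁻¹) * g = utv hF u c hu hc := by group
      rw [h3] at h2
      exact h2
  rw [eq_top_iff, ← Cfsg.Agent.ClassicalGeometry.UnitGenTwo.T_eq_top hF h32]
  exact hT

end Cfsg.Agent.H89.Reg
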