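import Cfsg.Agent.H89.Reg.Even

/-!
# S3691, row `PSU_N(q)`, `N ≥ 11` odd
-/

set_option autoImplicit false
set_option linter.unusedSectionVars false

namespace Cfsg.Agent.H89.Reg

open Cfsg Cfsg.Geo Module Matrix
open Cfsg.Agent.LieClassical.HermBasic Cfsg.Agent.ClassicalGeometry.HermOrtho
open Cfsg.Agent.LieClassical.HermSiegel (act mat act_mul act_one act_inv_act act_act_inv herm_act)
open Cfsg.Agent.H278.Cov Cfsg.Agent.H851.Dg
open Cfsg.Agent.GpUn (fx mem_fx ND fixG mem_fixG exists_equiv)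
open Cfsg.Agent.H674.SUBlock (pr pr_surjective)
open Cfsg.Agent.H251.GeoU (nat_card_eq ord_sq_odd ord_sq_even)

variable {F : Type} [Field F] [Fintype F] {n p f : ℕ}

/-- the normaliser of a field of full prime degree -/
theorem NF.card_full {q : ℕ} (hF : Fintype.card F = q ^ 2) (hn : 0 < n) {A : Subgroup (SU n F q)} (h : NF A n) :
    Nat.card A ∣ n * (q ^ (2 * n) - 1) := by
  classical
  obtain ⟨K, hK, hA⟩ := h
  have hne : Nonempty (Fin n) := ⟨⟨0, hn⟩⟩
  have hfin : Finite (GL (Fin n) F) := inferInstance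
  have hN : H912.NormAlg (subalgebraNormalizer K) K := fun _ hh a ha => (hh a).mp ha
  let _ : Field K := (H912.isField_of_fieldSub hK).toField
  have hfd : Module.Finite F K := inferInstance
  have hKfin : Finite K := Module.finite_of_finite F
  have hgal : IsGalois F K := inferInstance
  let φ : subalgebraNormalizer K →* (K ≃ₐ[F] K) :=
    { toFun := fun h => H912.conjSub hN h
      map_one' := by
        apply AlgEquiv.ext
        intro x
        apply Subtype.ext
        rw [H912.conjSub_coe]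
        simp
      map_mul' := fun a b => by
        apply AlgEquiv.ext
        intro x
        apply Subtype.ext
        rw [AlgEquiv.mul_apply, H912.conjSub_coe, H912.conjSub_coe, H912.conjSub_coe, Subgroup.coe_mul,
          _root_.mul_inv_rev, Units.val_mul, Units.val_mul]
        simp only [Matrix.mul_assoc] }
  have hker : Nat.card φ.ker ∣ q ^ (2 * n) - 1 := by
    have hmem : ∀ g : φ.ker, (((g : subalgebraNormalizer K) : GL (Fin n) F) : Matrix (Fin n) (Fin n) F) ∈ K := by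
      intro g
      apply H922.mem_of_commute (by rwa [Fintype.card_fin]) (by rwa [Fintype.card_fin])
      intro k hk
      have h1 : (H912.conjSub hN (g : subalgebraNormalizer K)) = 1 := g.2
      have h2 := H912.conjSub_coe hN (g : subalgebraNormalizer K) ⟨k, hk⟩
      rw [h1] at h2
      change k = _ at h2
      conv_rhs => rw [h2]
      rw [Matrix.mul_assoc, ← Units.val_mul, inv_mul_cancel, Units.val_one, Matrix.mul_one]
    let ψ0 : φ.ker →* K :=
      { toFun := fun g => ⟨_, hmem g⟩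
        map_one' := rfl
        map_mul' := fun a b => rfl }
    have hinj : Function.Injective ψ0.toHomUnits := by
      intro a b hab
      apply Subtype.ext
      apply Subtype.ext
      apply Units.ext
      exact congrArg (fun z : Kˣ => ((z : K) : Matrix (Fin n) (Fin n) F)) hab
    have h1 := Subgroup.card_dvd_of_injective ψ0.toHomUnits hinj
    have h2 : Nat.card K = q ^ (2 * n) := by
      rw [Module.natCard_eq_pow_finrank (K := F), hK.finrank_eq, Nat.card_eq_fintype_card, hF, ← pow_mul]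
    rwa [Nat.card_units, h2] at h1
  have hran : Nat.card φ.range ∣ n := by
    have h1 : Nat.card (K ≃ₐ[F] K) = n := by
      rw [IsGalois.card_aut_eq_finrank, hK.finrank_eq]
    exact (Subgroup.card_subgroup_dvd_card φ.range).trans h1.dvd
  have h1 := Subgroup.card_eq_card_quotient_mul_card_subgroup φ.ker
  have h2 : Nat.card (subalgebraNormalizer K ⧸ φ.ker) = Nat.card φ.range :=
    Nat.card_congr (QuotientGroup.quotientKerEquivRange φ).toEquiv
  have h3 : Nat.card A ∣ Nat.card (subalgebraNormalizer K) := by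
    have h2 : A.map (Cfsg.Agent.H809.SelfCent.toG n F q) ≤ subalgebraNormalizer K := by
      rintro _ ⟨g, hg, rfl⟩
      exact hA g hg
    rw [← Subgroup.card_map_of_injective (K := A) (Cfsg.Agent.H809.SelfCent.toG_injective (n := n) (F := F) (q := q))]
    exact Subgroup.card_dvd_of_le h2
  refine h3.trans ?_
  rw [h1, h2]
  exact mul_dvd_mul hran hker

/-- the primes of the second factor -/
theorem odd_primes (hp : p.Prime) (hf : 1 ≤ f) (hF : Fintype.card F = (p ^ f) ^ 2) (hn : 10 ≤ n) (hev : Even n)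
    {X Y : Subgroup (PSU (n + 1) F (p ^ f))} (h : Pr p f X Y) {r : ℕ} (hr : r.Prime) (hrn : r ∣ n + 1)
    (hNF : NF (X.comap (pr : SU (n + 1) F (p ^ f) →* _)) r) {k s : ℕ} (hk : k = n - 1 ∨ k = n - 3)
    (hs : Pm p f k s) : s ∣ Nat.card Y := by
  obtain ⟨c, hc⟩ := hev
  have hr2 : r ≠ 2 := by
    rintro rfl
    omega
  have hodd : Odd k := by
    rcases hk with rfl | rfl
    · exact ⟨c - 1, by omega⟩
    · exact ⟨c - 2, by omega⟩
  refine h.other_pm hp hf hF hs (by omega) hodd (by omega) fun hsd => ?_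
  have hslt := hs.lt hp hf (by omega)
  have hkf : 2 * k * 1 ≤ 2 * k * f := Nat.mul_le_mul_left _ hf
  have hrle : r ≤ n + 1 := Nat.le_of_dvd (by omega) hrn
  obtain ⟨i, hi1, hi2, hi3⟩ := hNF.div hF hr (by omega) hs.pr (hs.not_dvd_q hp hf (by omega)) (by omega)
    (hs.card_ord hp hf (by omega) hodd hF) hsd
  obtain ⟨d, hd⟩ := hi3
  have hd1 : d = 1 := by
    rcases d with _ | _ | d
    · have := hr.pos
      rw [mul_zero] at hd
      rcases Nat.mul_eq_zero.1 hd with h | h <;> omega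
    · rfl
    · have : k * 2 ≤ k * (d + 1 + 1) := Nat.mul_le_mul_left _ (by omega)
      omega
  rw [hd1, mul_one] at hd
  have h3 := Nat.dvd_sub hrn ⟨i, hd.symm⟩
  rcases hk with rfl | rfl
  · rw [show n + 1 - (n - 1) = 2 by omega] at h3
    exact hr2 ((Nat.prime_dvd_prime_iff_eq hr Nat.prime_two).1 h3)
  · rw [show n + 1 - (n - 3) = 2 ^ 2 by omega] at h3
    exact hr2 ((Nat.prime_dvd_prime_iff_eq hr Nat.prime_two).1 (hr.dvd_of_dvd_pow h3))

/-- the large prime of the second factor -/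
theorem odd_good (hp : p.Prime) (hf : 1 ≤ f) (hn : 10 ≤ n) (hev : Even n) :
    ∃ k', Odd k' ∧ (k' = n - 1 ∧ n ≠ 10 ∨ k' = 7 ∧ n = 10) ∧ ∃ l', Gd p f k' l' := by
  obtain ⟨c, hc⟩ := hev
  by_cases h10 : n = 10
  · exact ⟨7, by decide, Or.inr ⟨rfl, h10⟩, exists_gd hp hf (by omega) (by decide) (by omega)⟩
  · exact ⟨n - 1, ⟨c - 1, by omega⟩, Or.inl ⟨rfl, h10⟩, exists_gd hp hf (by omega) ⟨c - 1, by omega⟩ (by omega)⟩

/-- the second factor fixes a small subspace -/
theorem odd_small (hP : Cfsg.Agent.H659.CovCore.S5948Stmt.{0}) (hp : p.Prime) (hf : 1 ≤ f)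
    (hF : Fintype.card F = (p ^ f) ^ 2) (hn : 10 ≤ n) (hev : Even n) {A : Subgroup (SU (n + 1) F (p ^ f))} (hA : A ≠ ⊤)
    {k' l' s : ℕ} (hk'o : Odd k') (hk' : k' = n - 1 ∧ n ≠ 10 ∨ k' = 7 ∧ n = 10) (hl' : Gd p f k' l') {x : SU (n + 1) F (p ^ f)}
    (hx : x ∈ A) (hxo : orderOf x = l' ^ ((p ^ f) ^ k' + 1).factorization l') (hs : Pm p f (n - 1) s)
    {y : SU (n + 1) F (p ^ f)} (hy : y ∈ A) (hys : y ^ s = 1) (hy1 : y ≠ 1) :
    ∃ W : Submodule F (Fin (n + 1) → F), 1 ≤ finrank F W ∧ finrank F W ≤ 2 ∧ InvA A W := by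
  obtain ⟨c, hc⟩ := hev
  have hnum' : Num ((p ^ f) ^ 2) (n + 1) k' (orderOf x) := by
    rw [hxo]; exact hl'.num hp hf (by omega) (by omega) (by omega)
  rcases ogs hP hF hA hx hnum' with ⟨W', h0, h1, h3⟩ | ⟨r', hr', hrd', -⟩
  · obtain ⟨W'', g1, g2, g3⟩ := exists_small hF h0 h1 h3
    have ho1 : Odd (n - 1) := ⟨c - 1, by omega⟩
    have hso := hs.card_ord hp hf (by omega) ho1 hF
    have h10 := Submodule.finrank_mono (le_fx (a := 1) hs.pr hso (by rw [pow_one]; exact hys) (g3 y hy) (by omega))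
    have h11 := fx_dim (a := 1) hs.pr hso (by omega) (by rw [pow_one]; exact hys) hy1
    exact ⟨W'', g1, by omega, g3⟩
  · exfalso
    rcases hk' with ⟨rfl, -⟩ | ⟨rfl, rfl⟩
    · have h5 := dvd_sub_of_gcd hrd'
      rw [show n + 1 - (n - 1) = 2 by omega] at h5
      have h6 : r' = 2 := (Nat.prime_dvd_prime_iff_eq hr' Nat.prime_two).1 h5
      subst h6
      have h7 : 2 ∣ n + 1 := hrd'.trans (Nat.gcd_dvd_left _ _)
      omega
    · have h5 : Nat.gcd (10 + 1) 7 = 1 := by norm_num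
      rw [h5] at hrd'
      exact hr'.one_lt.ne' (Nat.dvd_one.1 hrd')

/-- the odd case, the second factor contains a prime of order `N - 1` -/
theorem odd_main (hP : Cfsg.Agent.H659.CovCore.S5948Stmt.{0}) (hp : p.Prime) (hf : 1 ≤ f)
    (hF : Fintype.card F = (p ^ f) ^ 2) (hn : 10 ≤ n) (hev : Even n) {X Y : Subgroup (PSU (n + 1) F (p ^ f))}
    (h : Pr p f X Y) {r : ℕ} (hr : r.Prime) (hrn : r ∣ n + 1) (hNF : NF (X.comap (pr : SU (n + 1) F (p ^ f) →* _)) r)
    {t : ℕ} (ht : Ev p f n t) (htY : t ∣ Nat.card Y) : Res Y := by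
  obtain ⟨c, hc⟩ := hev
  have hev : Even n := ⟨c, hc⟩
  have ho1 : Odd (n - 1) := ⟨c - 1, by omega⟩
  obtain ⟨k', hk'o, hk', l', hl'⟩ := odd_good (p := p) (f := f) hp hf hn hev
  have hl'Y : l' ∣ Nat.card Y := odd_primes hp hf hF hn hev h hr hrn hNF (by omega) hl'.toPm
  obtain ⟨x, hx, hxo⟩ := exists_full_elt h.symm hp hf hF (by omega) hl' hk'o (by omega) (by omega) (by omega) hl'Y
  obtain ⟨s, hs⟩ := exists_pm (p := p) (f := f) (k := n - 1) hp hf (by omega) ho1
  obtain ⟨y, hy, hys, hy1, -⟩ := exists_elt_pr hs.pr (odd_primes hp hf hF hn hev h hr hrn hNF (Or.inl rfl) hs)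
  obtain ⟨W, hW1, hW2, hWA⟩ := odd_small hP hp hf hF hn hev (comap_ne_top h.neY) hk'o hk' hl' hx hxo hs hy hys hy1
  obtain ⟨z, hz, hzt, hz1, -⟩ := exists_elt_pr ht.pr htY
  have hto := ht.card_ord hev hF
  have htq : ¬ t ∣ p ^ f := Cfsg.Agent.H251.GeoU.not_dvd_of_ord ht.pr ht.ord (by omega)
  have hWz : W ≤ fx z := le_fx (a := 1) ht.pr hto (by rw [pow_one]; exact hzt) (hWA z hz) (by omega)
  have h6 := fx_dim_neg hF ht.pr htq hzt hz1
  rw [ht.ord] at h6
  have hWd : finrank F W = 1 := by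
    have := Submodule.finrank_mono hWz
    omega
  have hWeq : W = fx z := Submodule.eq_of_le_of_finrank_le hWz (by omega)
  have hnd : ND (p ^ f) W := by
    rw [hWeq]; exact nd_fx (a := 1) hF ht.pr htq (by rw [pow_one]; exact hzt)
  obtain ⟨w, hww, hwW⟩ := exists_span hWd hnd
  obtain ⟨ι, hι, hιr⟩ := exists_iota hF hww
  by_cases hB : (Y.comap (pr : SU (n + 1) F (p ^ f) →* _)).comap ι = ⊤
  · refine ⟨w, hww, fun g hg => ?_⟩
    obtain ⟨y, rfl⟩ := (hιr g).1 hg
    have : y ∈ (Y.comap (pr : SU (n + 1) F (p ^ f) →* _)).comap ι := by rw [hB]; trivial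
    exact this
  exfalso
  have hl'o := hl'.toPm.card_ord hp hf (by omega) hk'o hF
  have hso := hs.card_ord hp hf (by omega) ho1 hF
  have hxp := pow_full hxo
  obtain ⟨x1, rfl⟩ := (hιr x).1 (fix_of_line hl'.pr hl'o (by omega) hWA hWd hx hxp hwW)
  obtain ⟨y1, rfl⟩ := (hιr y).1 (fix_of_line (a := 1) hs.pr hso (by omega) hWA hWd hy (by rw [pow_one]; exact hys) hwW)
  obtain ⟨z1, rfl⟩ := (hιr z).1 (fix_of_line (a := 1) ht.pr hto (by omega) hWA hWd hz (by rw [pow_one]; exact hzt) hwW)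
  have hy1s : y1 ^ s = 1 := hι (by rw [map_pow, hys, map_one])
  have hz1t : z1 ^ t = 1 := hι (by rw [map_pow, hzt, map_one])
  have hy11 : y1 ≠ 1 := by rintro rfl; exact hy1 (map_one ι)
  have hz11 : z1 ≠ 1 := by rintro rfl; exact hz1 (map_one ι)
  have hnum : Num ((p ^ f) ^ 2) n k' (orderOf x1) := by
    rw [← orderOf_injective ι hι x1, hxo]; exact hl'.num hp hf (by omega) (by omega) (by omega)
  rcases ogs hP hF hB (x := x1) hx hnum with ⟨W', h0, h1, h3⟩ | ⟨r', hr', hrd', -⟩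
  · obtain ⟨W'', g1, g2, g3⟩ := exists_small hF h0 h1 h3
    have h6 := fx_dim_neg hF ht.pr htq hz1t hz11
    rw [ht.ord] at h6
    have h7 := dvd_dim (a := 1) ht.pr hto (by omega) (by rw [pow_one]; exact hz1t) (g3 z1 hz)
    have h8 : finrank F (W'' ⊓ fx z1 : Submodule F (Fin n → F)) ≤ finrank F (fx z1) :=
      Submodule.finrank_mono inf_le_right
    have h9 := Nat.le_of_dvd (by omega) h7
    have h10 := Submodule.finrank_mono (le_fx (a := 1) hs.pr hso (by rw [pow_one]; exact hy1s) (g3 y1 hy) (by omega))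
    have h11 := fx_dim (a := 1) hs.pr hso (by omega) (by rw [pow_one]; exact hy1s) hy11
    omega
  · rcases hk' with ⟨rfl, -⟩ | ⟨rfl, rfl⟩
    · have h5 := dvd_sub_of_gcd hrd'
      rw [show n - (n - 1) = 1 by omega] at h5
      exact hr'.one_lt.ne' (Nat.dvd_one.1 h5)
    · have h5 : Nat.gcd 10 7 = 1 := by norm_num
      rw [h5] at hrd'
      exact hr'.one_lt.ne' (Nat.dvd_one.1 hrd')

/-! ### `PSU_13(2)` -/

/-- `49` does not divide `|SU_m(2)|` for `m ≤ 11` -/
theorem not_49 (hF : Fintype.card F = 2 ^ 2) {m : ℕ} (hm : m ≤ 11) : ¬ 49 ∣ Nat.card (SU m F 2) := by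
  intro h
  obtain ⟨k, hk⟩ := Nat.exists_eq_add_of_le hm
  have h1 : Nat.card (SU m F 2) ∣ Nat.card (SU (m + k) F 2) :=
    Subgroup.card_dvd_of_injective (Cfsg.Agent.H674.SUBlock.ext hF k) (Cfsg.Agent.H674.SUBlock.ext_injective hF)
  rw [← hk] at h1
  have h2 := S0278.result (F := F) (q := 2) hF 11 (by norm_num)
  have h3 : 49 ∣ (2 + 1) * Nat.card (SU 11 F 2) := (h.trans h1).mul_left _
  rw [h2] at h3
  have h4 : Nat.Coprime 49 (2 ^ (11 * (11 - 1) / 2)) := Nat.Coprime.pow_right _ (by norm_num)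
  have h5 := h4.dvd_of_dvd_mul_left h3
  simp only [Finset.prod_range_succ, Finset.prod_range_zero] at h5
  revert h5
  decide

/-- the fixed space of a group of order prime to the characteristic is nondegenerate -/
theorem nd_fix_group {q m : ℕ} (hF : Fintype.card F = q ^ 2) (P : Subgroup (SU m F q)) {l : ℕ} (hl : l.Prime)
    (hlq : ¬ l ∣ q) {a : ℕ} (hPc : Nat.card P = l ^ a) {C : Submodule F (Fin m → F)}
    (hC : ∀ v, v ∈ C ↔ ∀ g ∈ P, act g v = v) : ND q C := by
  classical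
  have hfin : Finite (SU m F q) := inferInstance
  have : Fintype P := Fintype.ofFinite P
  have hlF : (l : F) ≠ 0 := Cfsg.Agent.H251.GeoU.natCast_ne hF hl hlq
  intro v hv h
  apply herm_nondeg hF
  intro z
  have h1 : (∑ g : P, act (g : SU m F q) z) ∈ C := by
    rw [hC]
    intro g hg
    rw [Cfsg.Agent.LieClassical.HermSiegel.act_sum]
    refine Fintype.sum_equiv (Equiv.mulLeft (⟨g, hg⟩ : P)) _ _ fun y => ?_
    rw [Equiv.coe_mulLeft, Subgroup.coe_mul, act_mul]
  have h2 := h _ h1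
  rw [herm_sum_right hF] at h2
  have h3 : ∀ g ∈ (Finset.univ : Finset P), hermForm m F q v (act (g : SU m F q) z) = hermForm m F q v z := by
    intro g _
    conv_lhs => rw [← (hC v).1 hv g g.2]
    rw [herm_act]
  rw [Finset.sum_congr rfl h3, Finset.sum_const, Finset.card_univ, ← Nat.card_eq_fintype_card, hPc, nsmul_eq_mul,
    Nat.cast_pow] at h2
  exact (mul_eq_zero.1 h2).resolve_left (pow_ne_zero _ hlF)

/-- the fixed space of a subgroup of order `49` of `SU_m(2)` has codimension at least `12` -/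
theorem fix_49 (hF : Fintype.card F = 2 ^ 2) {m : ℕ} (P : Subgroup (SU m F 2)) (hPc : Nat.card P = 7 ^ 2)
    {W : Submodule F (Fin m → F)} (hW : ∀ g ∈ P, ∀ w ∈ W, act g w = w) : finrank F W + 12 ≤ m := by
  classical
  let C : Submodule F (Fin m → F) :=
    { carrier := {v | ∀ g ∈ P, act g v = v}
      add_mem' := fun {u v} hu hv g hg => by
        rw [Cfsg.Agent.LieClassical.HermSiegel.act_add, hu g hg, hv g hg]
      zero_mem' := fun g _ => Cfsg.Agent.LieClassical.HermSiegel.act_zero g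
      smul_mem' := fun c v hv g hg => by
        rw [Cfsg.Agent.LieClassical.HermSiegel.act_smul, hv g hg] }
  have hC : ∀ v, v ∈ C ↔ ∀ g ∈ P, act g v = v := fun _ => Iff.rfl
  have hWC : W ≤ C := fun w hw g hg => hW g hg w hw
  have hnd : ND 2 C := nd_fix_group hF P (by norm_num : (7 : ℕ).Prime) (by norm_num) hPc hC
  set U := hermPerp 2 (C : Set (Fin m → F)) with hU
  have hUnd : ND 2 U := hermPerp_nondeg hF C hnd
  have h1 : finrank F C + finrank F U = m := finrank_perp hF C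
  have h2 : finrank F U + finrank F (hermPerp 2 (U : Set (Fin m → F))) = m := finrank_perp hF U
  have h3 : C ≤ hermPerp 2 (U : Set (Fin m → F)) := by
    intro z hz u hu
    have h3 : hermForm m F 2 u z = 0 := hu z hz
    exact herm_eq_zero_swap hF h3
  have h4 : C = hermPerp 2 (U : Set (Fin m → F)) := Submodule.eq_of_le_of_finrank_eq h3 (by omega)
  obtain ⟨e⟩ := exists_equiv hF U hUnd rfl
  have h5 : P ≤ fixG 2 (hermPerp 2 (U : Set (Fin m → F))) := by
    intro g hg w hw
    rw [← h4] at hw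
    exact hw g hg
  have h6 : 49 ∣ Nat.card (SU (finrank F U) F 2) := by
    rw [Nat.card_congr e.toEquiv]
    have h7 := Subgroup.card_dvd_of_le h5
    rwa [hPc] at h7
  have h7 : 11 < finrank F U := by
    by_contra h8
    exact not_49 hF (by omega) h6
  have h8 := Submodule.finrank_mono hWC
  omega

/-- `49 ∣ |PSU_13(2)|` -/
theorem dvd_49 (hF : Fintype.card F = 2 ^ 2) : 7 ^ 2 ∣ Nat.card (PSU 13 F 2) := by
  have h0 := S0280.result (F := F) hF 13 (by norm_num)
  have h1 : 7 ^ 2 ∣ Nat.gcd 13 (2 + 1) * ((2 + 1) * Nat.card (PSU 13 F 2)) := by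
    rw [h0]
    refine Dvd.dvd.mul_left ?_ _
    simp only [Finset.prod_range_succ, Finset.prod_range_zero]
    decide
  have h2 : Nat.gcd 13 (2 + 1) = 1 := by norm_num
  rw [h2, one_mul] at h1
  have h3 : Nat.Coprime (7 ^ 2) (2 + 1) := by norm_num
  exact h3.dvd_of_dvd_mul_left h1

theorem ord_seven : orderOf (-((2 ^ 1 : ℕ) : ZMod 7)) = 6 := by
  rw [orderOf_eq_iff (by norm_num)]
  constructor
  · decide
  · intro m hm hm0
    interval_cases m <;> decide

theorem ord_seven' : orderOf ((4 : ℕ) : ZMod 7) = 3 := by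
  rw [orderOf_eq_iff (by norm_num)]
  constructor
  · decide
  · intro m hm hm0
    interval_cases m <;> decide

end Cfsg.Agent.H89.Reg
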