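import Cfsg.Agent.H89.Reg.Odd

/-!
# S3691, row `PSU_N(q)`, `N ≥ 11`: the main theorem
-/

set_option autoImplicit false
set_option linter.unusedSectionVars false

namespace Cfsg.Agent.H89.Reg

open Cfsg Cfsg.Geo Module Matrix
open Cfsg.Agent.LieClassical.HermBasic Cfsg.Agent.ClassicalGeometry.HermOrtho
open Cfsg.Agent.LieClassical.HermSiegel (act mat act_mul act_one act_inv_act act_act_inv herm_act)
open Cfsg.Agent.H278.Cov Cfsg.Agent.H851.Dg
open Cfsg.Agent.GpUn (fx mem_fx ND fixG mem_fixG exists_equiv)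
open Cfsg.Agent.H674.SUBlock (pr pr_surjective)
open Cfsg.Agent.H251.GeoU (nat_card_eq ord_sq_odd ord_sq_even)

variable {F : Type} [Field F] [Fintype F] {n p f : ℕ}

theorem fix_49' {q : ℕ} (hq : q = 2) (hF : Fintype.card F = q ^ 2) {m : ℕ} (P : Subgroup (SU m F q))
    (hPc : Nat.card P = 7 ^ 2) {W : Submodule F (Fin m → F)} (hW : ∀ g ∈ P, ∀ w ∈ W, act g w = w) :
    finrank F W + 12 ≤ m := by
  subst hq
  exact fix_49 hF P hPc hW

theorem dvd_49' {q : ℕ} (hq : q = 2) (hF : Fintype.card F = q ^ 2) : 7 ^ 2 ∣ Nat.card (PSU 13 F q) := by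
  subst hq
  exact dvd_49 hF

/-- the elements of order `49` fix a small invariant subspace -/
theorem fix_small (hF : Fintype.card F = (2 ^ 1) ^ 2) {m : ℕ} {A : Subgroup (SU m F (2 ^ 1))}
    {W : Submodule F (Fin m → F)} (hW : InvA A W) (h2 : finrank F W ≤ 2) {P : Subgroup (SU m F (2 ^ 1))} (hP : P ≤ A)
    (hPc : Nat.card P = 7 ^ 2) : ∀ g ∈ P, ∀ w ∈ W, act g w = w := by
  intro g hg w hw
  have h7 : orderOf ((Nat.card F : ℕ) : ZMod 7) = 3 := by
    rw [nat_card_eq hF]
    exact ord_seven'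
  have hg2 : g ^ 7 ^ 2 = 1 := by
    have h1 : orderOf g ∣ 7 ^ 2 := by rw [← hPc]; exact Subgroup.orderOf_dvd_natCard _ hg
    exact orderOf_dvd_iff_pow_eq_one.1 h1
  exact le_fx (by norm_num : (7 : ℕ).Prime) h7 hg2 (hW g (hP hg)) (by omega) hw

theorem odd_thirteen (hP : Cfsg.Agent.H659.CovCore.S5948Stmt.{0}) (hF : Fintype.card F = (2 ^ 1) ^ 2)
    {X Y : Subgroup (PSU (12 + 1) F (2 ^ 1))} (h : Pr 2 1 X Y)
    (hNF : NF (X.comap (pr : SU (12 + 1) F (2 ^ 1) →* _)) 13) : Res Y := by
  have hp : Nat.Prime 2 := Nat.prime_two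
  have h13 : Nat.Prime 13 := by norm_num
  have p7 : Nat.Prime 7 := by norm_num
  have hf : 1 ≤ 1 := le_rfl
  have hev : Even 12 := by decide
  have ho1 : Odd 11 := by decide
  have ho7 : orderOf ((Nat.card F : ℕ) : ZMod 7) = 3 := by
    rw [nat_card_eq hF]
    exact ord_seven'
  -- `49` divides the order of the second factor
  have h7X : ¬ 7 ∣ Nat.card (X.comap (pr : SU (12 + 1) F (2 ^ 1) →* _)) := by
    intro hd
    obtain ⟨i, hi1, hi2, hi3⟩ := hNF.div hF h13 (by norm_num) p7 (by norm_num) (by norm_num) ho7 hd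
    have : i = 1 := by omega
    subst this
    omega
  have h49 : 7 ^ 2 ∣ Nat.card Y := by
    have h1 := h.val 7 p7 (by norm_num) (by norm_num) (by norm_num)
    rw [Nat.factorization_eq_zero_of_not_dvd fun h3 => h7X (h3.trans (card_dvd_comap X)), zero_add] at h1
    rw [p7.pow_dvd_iff_le_factorization Nat.card_pos.ne', h1, ← p7.pow_dvd_iff_le_factorization Nat.card_pos.ne']
    exact dvd_49' (by norm_num) hF
  obtain ⟨l', hl'⟩ := exists_gd (p := 2) (f := 1) (k := 11) hp hf (by norm_num) ho1 (by norm_num)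
  have hl'Y : l' ∣ Nat.card Y := odd_primes hp hf hF (by norm_num) hev h h13 (by norm_num) hNF (Or.inl rfl) hl'.toPm
  obtain ⟨x, hx, hxo⟩ := exists_full_elt h.symm hp hf hF (by omega) hl' ho1 (by omega) (by omega) (by omega) hl'Y
  obtain ⟨y, hy, hys, hy1, -⟩ := exists_elt_pr hl'.pr hl'Y
  obtain ⟨W, hW1, hW2, hWA⟩ := odd_small hP hp hf hF (n := 12) (by norm_num) hev (comap_ne_top h.neY) ho1
    (Or.inl ⟨rfl, by norm_num⟩) hl' hx hxo hl'.toPm hy hys hy1
  have hfin : Finite (SU (12 + 1) F (2 ^ 1)) := inferInstance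
  set K := Y.comap (pr : SU (12 + 1) F (2 ^ 1) →* _) with hK
  have := Fact.mk p7
  obtain ⟨P0, hP0⟩ := Sylow.exists_subgroup_card_pow_prime 7 (h49.trans (card_dvd_comap Y))
  set P := P0.map K.subtype with hPdef
  have hPK : P ≤ K := Subgroup.map_subtype_le _
  have hPc : Nat.card P = 7 ^ 2 := by rw [hPdef, Subgroup.card_map_of_injective K.subtype_injective, hP0]
  have hfixW := fix_small hF hWA hW2 hPK hPc
  have hWd : finrank F W = 1 := by
    have := fix_49' (by norm_num) hF P hPc hfixW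
    omega
  -- the line is nondegenerate
  let C : Submodule F (Fin (12 + 1) → F) :=
    { carrier := {v | ∀ g ∈ P, act g v = v}
      add_mem' := fun {u v} hu hv g hg => by
        rw [Cfsg.Agent.LieClassical.HermSiegel.act_add, hu g hg, hv g hg]
      zero_mem' := fun g _ => Cfsg.Agent.LieClassical.HermSiegel.act_zero g
      smul_mem' := fun c v hv g hg => by
        rw [Cfsg.Agent.LieClassical.HermSiegel.act_smul, hv g hg] }
  have hC : ∀ v, v ∈ C ↔ ∀ g ∈ P, act g v = v := fun _ => Iff.rfl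
  have hWC : W ≤ C := fun w hw g hg => hfixW g hg w hw
  have hCd : finrank F C ≤ 1 := by
    have := fix_49' (by norm_num) hF P hPc (W := C) fun g hg w hw => hw g hg
    omega
  have hWeq : W = C := Submodule.eq_of_le_of_finrank_le hWC (by omega)
  have hnd : ND (2 ^ 1) W := by
    rw [hWeq]
    exact nd_fix_group hF P p7 (by norm_num) hPc hC
  obtain ⟨w, hww, hwW⟩ := exists_span hWd hnd
  obtain ⟨ι, hι, hιr⟩ := exists_iota hF hww
  by_cases hB : K.comap ι = ⊤
  · refine ⟨w, hww, fun g hg => ?_⟩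
    obtain ⟨y, rfl⟩ := (hιr g).1 hg
    have : y ∈ K.comap ι := by rw [hB]; trivial
    exact this
  exfalso
  have hl'o := hl'.toPm.card_ord hp hf (by omega) ho1 hF
  have hxp := pow_full hxo
  obtain ⟨x1, rfl⟩ := (hιr x).1 (fix_of_line hl'.pr hl'o (by omega) hWA hWd hx hxp hwW)
  have hnum : Num ((2 ^ 1) ^ 2) 12 11 (orderOf x1) := by
    rw [← orderOf_injective ι hι x1, hxo]; exact hl'.num hp hf (by omega) (by omega) (by omega)
  have hx1p : x1 ^ l' ^ ((2 ^ 1) ^ 11 + 1).factorization l' = 1 := pow_full (by rw [← orderOf_injective ι hι x1, hxo])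
  rcases ogs hP hF hB (x := x1) hx hnum with ⟨W', h0, h1, h3⟩ | ⟨r', hr', hrd', -⟩
  · obtain ⟨W'', g1, g2, g3⟩ := exists_small hF h0 h1 h3
    have h10 := Submodule.finrank_mono (le_fx hl'.pr hl'o hx1p (g3 x1 hx) (by omega))
    have h11 := fx_dim hl'.pr hl'o (by omega) hx1p (ne_one_of_num hnum)
    have hPr : P ≤ ι.range := fun g hg => (hιr g).1 (hfixW g hg w hwW)
    have hPc' : Nat.card (P.comap ι) = 7 ^ 2 := by
      rw [← hPc, ← Subgroup.card_map_of_injective (K := P.comap ι) hι, Subgroup.map_comap_eq, inf_eq_right.2 hPr]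
    have hPK' : P.comap ι ≤ K.comap ι := Subgroup.comap_mono hPK
    have hfix2 := fix_small hF g3 (by omega) hPK' hPc'
    have := fix_49' (by norm_num) hF (P.comap ι) hPc' hfix2
    omega
  · have h5 : Nat.gcd 12 11 = 1 := by norm_num
    rw [h5] at hrd'
    exact hr'.one_lt.ne' (Nat.dvd_one.1 hrd')

/-- the odd case, the factor not containing the primes of order `N` -/
theorem odd_case (hP : Cfsg.Agent.H659.CovCore.S5948Stmt.{0}) (hp : p.Prime) (hf : 1 ≤ f)
    (hF : Fintype.card F = (p ^ f) ^ 2) (hn : 10 ≤ n) (hev : Even n) {X Y : Subgroup (PSU (n + 1) F (p ^ f))}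
    (h : Pr p f X Y) {l : ℕ} (hl : Gd p f (n + 1) l) (hd : l ∣ Nat.card X) : Res Y := by
  obtain ⟨c, hc⟩ := hev
  have hev : Even n := ⟨c, hc⟩
  have hodd : Odd (n + 1) := ⟨c, by omega⟩
  set H := X.comap (pr : SU (n + 1) F (p ^ f) →* _) with hH
  have hHt : H ≠ ⊤ := comap_ne_top h.neX
  obtain ⟨x, hx, hxo⟩ := exists_full_elt h hp hf hF (by omega) hl hodd (by omega) (by omega) (by omega) hd
  have hnum : Num ((p ^ f) ^ 2) (n + 1) (n + 1) (orderOf x) := by
    rw [hxo]; exact hl.num hp hf (by omega) (by omega) (by omega)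
  have hxp := pow_full hxo
  have hx1 : x ≠ 1 := ne_one_of_num hnum
  have hlo := hl.toPm.card_ord hp hf (by omega) hodd hF
  obtain ⟨r, hr, hrn, hNF⟩ : ∃ r, r.Prime ∧ r ∣ n + 1 ∧ NF H r := by
    rcases ogs hP hF hHt hx hnum with ⟨W, h0, h1, h2⟩ | ⟨r, hr, hrd, h3⟩
    · exfalso
      obtain ⟨W'', h3, h4, h5⟩ := exists_small hF h0 h1 h2
      have h6 := Submodule.finrank_mono (le_fx hl.pr hlo hxp (h5 x hx) (by omega))
      have h7 := fx_dim hl.pr hlo (by omega) hxp hx1
      omega
    · rw [Nat.gcd_self] at hrd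
      exact ⟨r, hr, hrd, h3⟩
  have hrle : r ≤ n + 1 := Nat.le_of_dvd (by omega) hrn
  by_cases hex : n = 12 ∧ p ^ f = 2
  · obtain ⟨rfl, h2⟩ := hex
    have hp2 : p = 2 := by
      have h3 : p ∣ 2 := by rw [← h2]; exact dvd_pow_self p (by omega)
      exact (Nat.prime_dvd_prime_iff_eq hp Nat.prime_two).1 h3
    subst hp2
    have hf1 : f = 1 := Nat.pow_right_injective le_rfl (by rw [h2, pow_one] : 2 ^ f = 2 ^ 1)
    subst hf1
    have hr13 : r = 13 := (Nat.prime_dvd_prime_iff_eq hr (by norm_num)).1 hrn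
    subst hr13
    exact odd_thirteen hP hF h hNF
  · obtain ⟨t, ht, ht'⟩ := exists_ev' hp hf hn hev hex
    have hto := ht.card_ord hev hF
    have htle := ht.le (by omega)
    have htq : ¬ t ∣ p ^ f := Cfsg.Agent.H251.GeoU.not_dvd_of_ord ht.pr ht.ord (by omega)
    have key : t ≠ r → t ∣ Nat.card Y := by
      intro htr
      refine h.other_ev hF ht (by omega) (by omega) fun htd => ?_
      obtain ⟨i, hi1, hi2, d, hd⟩ := hNF.div hF hr (by omega) ht.pr htq htr hto htd
      have hr0 := hr.pos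
      have hri : 0 < r * i := Nat.mul_pos hr0 hi1
      have hrn' : r ∣ n := by
        rcases d with _ | _ | _ | d
        · omega
        · refine ⟨i * 2, ?_⟩
          rw [← mul_assoc, hd]
          omega
        · exact ⟨i, by omega⟩
        · exfalso
          have : n / 2 * 3 ≤ n / 2 * (d + 1 + 1 + 1) := Nat.mul_le_mul_left _ (by omega)
          omega
      exact hr.one_lt.ne' (Nat.dvd_one.1 ((Nat.dvd_add_right hrn').1 hrn))
    have htY : t ∣ Nat.card Y := by
      by_cases htr : t = r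
      swap
      · exact key htr
      have htn : t = n + 1 := by omega
      have hsq : t ^ 2 ∣ (p ^ f) ^ n - 1 := ht'.resolve_left (fun h1 => h1 htn)
      have h1 : t ^ 2 ∣ Nat.card (PSU (n + 1) F (p ^ f)) := by
        refine pow_dvd_psu hF ht.pr (ht.not_dvd_succ (by omega)) (i := n - 1) (by omega) (by omega) ?_
        have hne : ¬ Even (n - 1) := by
          rintro ⟨d, hd⟩
          omega
        rw [if_neg hne, Nat.sub_add_cancel (by omega)]
        exact hsq
      have h2 : ¬ t ^ 2 ∣ Nat.card H := by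
        intro h3
        rw [← htr, htn] at hNF
        have h4 := h3.trans (hNF.card_full hF (by omega))
        rw [← htn, pow_two] at h4
        have h5 := Nat.dvd_of_mul_dvd_mul_left ht.pr.pos h4
        have h6 : n / 2 ∣ t := by
          have hq1 : 1 ≤ Nat.card F := Nat.card_pos
          rw [← hto, ← Lib.Zsigmondy.dvd_pow_sub_one_iff hq1, nat_card_eq hF, ← pow_mul]
          exact h5
        have h7 : n / 2 ∣ n := ⟨2, by omega⟩
        rw [htn] at h6
        have h8 := (Nat.dvd_add_right h7).1 h6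
        have := Nat.le_of_dvd (by norm_num) h8
        omega
      have h3 := h.val t ht.pr ht.ne_two ht.not_dvd_f (ht.not_dvd_succ (by omega))
      have h4 := (ht.pr.pow_dvd_iff_le_factorization Nat.card_pos.ne').1 h1
      have h5 : (Nat.card X).factorization t ≤ 1 := by
        by_contra h6
        apply h2
        refine dvd_trans ?_ (card_dvd_comap X)
        rw [ht.pr.pow_dvd_iff_le_factorization Nat.card_pos.ne']
        omega
      rw [ht.pr.dvd_iff_one_le_factorization Nat.card_pos.ne']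
      omega
    exact odd_main hP hp hf hF hn hev h hr hrn hNF ht htY

/-- **The main theorem for `N ≥ 11`.** -/
theorem core {N : ℕ} (hP : Cfsg.Agent.H659.CovCore.S5948Stmt.{0}) (hp : p.Prime) (hf : 1 ≤ f)
    (hF : Fintype.card F = (p ^ f) ^ 2) (hN : 11 ≤ N) {X Y : Subgroup (PSU N F (p ^ f))} (h : Pr p f X Y) :
    Res X ∨ Res Y := by
  obtain ⟨n, rfl⟩ : ∃ n, N = n + 1 := ⟨N - 1, by omega⟩
  rcases Nat.even_or_odd n with hev | hodd
  · obtain ⟨c, hc⟩ := hev
    have hodd : Odd (n + 1) := ⟨c, by omega⟩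
    obtain ⟨l, hl⟩ := exists_gd (p := p) (f := f) (k := n + 1) hp hf (by omega) hodd (by omega)
    rcases h.one hp hf hF hl.toPm (by omega) hodd le_rfl with hd | hd
    · exact Or.inr (odd_case hP hp hf hF (by omega) ⟨c, hc⟩ h hl hd)
    · exact Or.inl (odd_case hP hp hf hF (by omega) ⟨c, hc⟩ h.symm hl hd)
  · have hn : 11 ≤ n := by
      obtain ⟨c, hc⟩ := hodd
      omega
    obtain ⟨l, hl⟩ := exists_gd (p := p) (f := f) (k := n) hp hf (by omega) hodd (by omega)
    rcases h.one hp hf hF hl.toPm (by omega) hodd (by omega) with hd | hd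
    · exact Or.inl (even_case hP hp hf hF hn hodd h hl hd)
    · exact Or.inr (even_case hP hp hf hF hn hodd h.symm hl hd)

end Cfsg.Agent.H89.Reg
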