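import Cfsg.Agent.H89.Reg.Top
import Cfsg.Agent.H729.CovSU9

/-!
# S3691, row `PSU_N(q)`, `N ≥ 10`
-/

set_option autoImplicit false
set_option linter.unusedSectionVars false

namespace Cfsg.Agent.H89.Reg

open Cfsg Cfsg.Geo Module Matrix
open Cfsg.Agent.LieClassical.HermBasic Cfsg.Agent.ClassicalGeometry.HermOrtho
open Cfsg.Agent.LieClassical.HermSiegel (act mat act_mul act_one act_inv_act act_act_inv herm_act)
open Cfsg.Agent.H278.Cov Cfsg.Agent.H851.Dg Cfsg.Agent.H454.Reg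
open Cfsg.Agent.GpUn (fx mem_fx ND fixG mem_fixG exists_equiv)
open Cfsg.Agent.H674.SUBlock (pr pr_surjective)
open Cfsg.Agent.H251.GeoU (nat_card_eq ord_sq_odd ord_sq_even pre card_dvd_pre)
open Cfsg.Agent.H729.CovU Cfsg.Agent.H729.CovSU9

variable {F : Type} [Field F] [Fintype F] {p f : ℕ}

/-- a maximal subgroup of `PSU_9(q)` of order divisible by a primitive prime of `q ^ 9 + 1` has order prime to the
primitive primes of `q ^ 7 + 1` -/
theorem nine_coatom (hres : Res9 F (p ^ f)) (hp : p.Prime) (hf : 1 ≤ f) (hF : Fintype.card F = (p ^ f) ^ 2) {s9 s7 : ℕ}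
    (h9 : Pm p f 9 s9) (h7 : Pm p f 7 s7) {M : Subgroup (PSU 9 F (p ^ f))} (hM : IsCoatom M) (hd : s9 ∣ Nat.card M) :
    ¬ s7 ∣ Nat.card M := by
  have ho9 := h9.ord hp hf (by norm_num) (by decide)
  have ho7 := h7.ord hp hf (by norm_num) (by decide)
  have hb9 := h9.dvd_pred hp hf (by norm_num)
  have hb7 := h7.dvd_pred hp hf (by norm_num)
  have hl9 := h9.lt hp hf (by norm_num)
  have hl7 := h7.lt hp hf (by norm_num)
  have hd9 : 18 ∣ s9 - 1 := Dvd.dvd.trans ⟨f, by ring⟩ hb9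
  have hd7 : 14 ∣ s7 - 1 := Dvd.dvd.trans ⟨f, by ring⟩ hb7
  rcases geo_over_pre hF hp rfl hf h9.pr h9.iff ho9 (by decide) (by norm_num) (by norm_num) (by omega) hM.1 hd with
    ⟨W, hW0, -, hW, -⟩ | ⟨W, hW0, -, -, hW, -⟩ | ⟨r, K, hr, hro, hr9, -, hK, hle⟩ | hMr
  · exact absurd (Submodule.finrank_eq_zero.1 (by omega)) hW0
  · exact absurd (Submodule.finrank_eq_zero.1 (by omega)) hW0
  · have hr3 : r = 3 := by
      have h1 : r ∣ 3 ^ 2 := hr9
      exact (Nat.prime_dvd_prime_iff_eq hr Nat.prime_three).1 (hr.dvd_of_dvd_pow h1)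
    subst hr3
    intro h
    have h1 := (h.trans (card_dvd_pre M)).trans (Subgroup.card_dvd_of_le hle)
    have := (ext_dvd hF h7.pr ho7 (by decide) (by norm_num) (by norm_num) (by omega) hr le_rfl hK h1).2.1
    omega
  · obtain ⟨P, hP, hcases⟩ := hres (pre M) (isMaximalIn_pre hM) hMr
    obtain ⟨S, hSn, hSs, hna, hC, ⟨e⟩⟩ := H264.FKS.exists_res_psu hF (by norm_num) hP
    rcases hcases with ⟨⟨e2⟩, -⟩ | ⟨hJ, -⟩ | hL
    · intro h
      rcases l219 hna (e.trans e2) h7.pr (by omega) (dvd_or S hna hC h7.pr h) with h1 | h1 <;> omega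
    · have hJ' : Spor.IsoJ3 S := by
        obtain ⟨K, i1, i2, ω, hK, hω, ⟨e3⟩⟩ := hJ
        exact ⟨K, i1, i2, ω, hK, hω, ⟨e.trans e3⟩⟩
      intro h
      rcases j3 hJ' h7.pr (by omega) (dvd_or S hna hC h7.pr h) with h1 | h1 | h1 <;> omega
    · obtain ⟨e2⟩ := hL
      intro h
      exact l3 hF hp rfl hf hna (e.trans e2) h7.pr ho7 (by decide) (by norm_num) hb7 (dvd_or S hna hC h7.pr h)

theorem map_ne_top {m q : ℕ} (hF : Fintype.card F = q ^ 2) (hm : 3 ≤ m) (h32 : ¬ (m = 3 ∧ q = 2)) {B : Subgroup (SU m F q)}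
    (hB : B ≠ ⊤) : B.map pr ≠ ⊤ := by
  intro h
  apply hB
  have h1 : ∀ x : SU m F q, ∃ b ∈ B, ∃ z ∈ Subgroup.center (SU m F q), x = b * z := by
    intro x
    have h2 : pr x ∈ B.map pr := by rw [h]; trivial
    obtain ⟨b, hb, hbx⟩ := h2
    refine ⟨b, hb, b⁻¹ * x, ?_, by group⟩
    rw [← Cfsg.Agent.H674.SUBlock.pr_eq_one_iff, map_mul, map_inv, hbx, inv_mul_cancel]
  have h2 := Cfsg.Agent.GpUn.perfect_SU hF hm h32
  have h3 : commutator (SU m F q) ≤ B := by
    rw [commutator_eq_closure, Subgroup.closure_le]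
    rintro _ ⟨x, y, rfl⟩
    obtain ⟨b, hb, z, hz, rfl⟩ := h1 x
    obtain ⟨c, hc, t, ht, rfl⟩ := h1 y
    have hz' := Subgroup.mem_center_iff.1 hz
    have ht' := Subgroup.mem_center_iff.1 ht
    have h4 : b * z * (c * t) * (b * z)⁻¹ * (c * t)⁻¹ = b * c * b⁻¹ * c⁻¹ := by
      have e1 : (b * z) * (c * t) = (b * c) * (z * t) := by
        rw [mul_assoc, ← mul_assoc z, ← hz' c]; group
      have e2 : (c * t) * (b * z) = (c * b) * (z * t) := by
        rw [mul_assoc, ← mul_assoc t, ← ht' b, mul_assoc b, hz' t]; group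
      have e3 : b * z * (c * t) * (b * z)⁻¹ * (c * t)⁻¹ = (b * z * (c * t)) * ((c * t) * (b * z))⁻¹ := by group
      rw [e3, e1, e2]
      group
    change b * z * (c * t) * (b * z)⁻¹ * (c * t)⁻¹ ∈ B
    rw [h4]
    exact B.mul_mem (B.mul_mem (B.mul_mem hb hc) (B.inv_mem hb)) (B.inv_mem hc)
  rw [eq_top_iff]
  refine le_trans ?_ h3
  exact h2.ge

theorem dvd_map {m q : ℕ} (hF : Fintype.card F = q ^ 2) (hm : 3 ≤ m) {B : Subgroup (SU m F q)} {s : ℕ} (hs : s.Prime)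
    (hsq : ¬ s ∣ q + 1) (h : s ∣ Nat.card B) : s ∣ Nat.card (B.map (pr : SU m F q →* _)) := by
  obtain ⟨g, hg, hgs, hg1, hgo⟩ := exists_elt hs h
  have h1 : orderOf (pr g) ∣ s := by rw [← hgo]; exact orderOf_map_dvd _ _
  rcases (Nat.dvd_prime hs).1 h1 with h2 | h2
  · exfalso
    rw [orderOf_eq_one_iff, Cfsg.Agent.H674.SUBlock.pr_eq_one_iff] at h2
    have h3 := Cfsg.Agent.GpUn.center_pow hF hm h2
    have h4 := orderOf_dvd_of_pow_eq_one h3
    rw [hgo] at h4
    exact hsq h4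
  · rw [← h2]
    exact Subgroup.orderOf_dvd_natCard _ ⟨g, hg, rfl⟩

/-- the case `N = 10`, the factor containing the primes of order `9` -/
theorem ten_case (hP : Cfsg.Agent.H659.CovCore.S5948Stmt.{0}) (hres : Res9 F (p ^ f)) (hp : p.Prime) (hf : 1 ≤ f)
    (hF : Fintype.card F = (p ^ f) ^ 2) {X Y : Subgroup (PSU (9 + 1) F (p ^ f))}
    (h : Pr p f X Y) {l : ℕ} (hl : Gd p f 9 l) (hd : l ∣ Nat.card X) : Res X := by
  have hodd : Odd 9 := by decide
  have ho7 : Odd 7 := by decide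
  have hfin : Finite (SU (9 + 1) F (p ^ f)) := inferInstance
  set H := X.comap (pr : SU (9 + 1) F (p ^ f) →* _) with hH
  have hHt : H ≠ ⊤ := comap_ne_top h.neX
  obtain ⟨x, hx, hxo⟩ := exists_full_elt h hp hf hF (by omega) hl hodd (by omega) (by omega) (by omega) hd
  have hnum : Num ((p ^ f) ^ 2) (9 + 1) 9 (orderOf x) := by
    rw [hxo]; exact hl.num hp hf (by omega) (by omega) (by omega)
  have hxp := pow_full hxo
  have hx1 : x ≠ 1 := ne_one_of_num hnum
  have hlo := hl.toPm.card_ord hp hf (by omega) hodd hF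
  have hlq := hl.toPm.not_dvd_q hp hf (by omega)
  -- the first factor fixes a nonsingular point
  obtain ⟨W, hW1, hW2, hWH⟩ : ∃ W : Submodule F (Fin (9 + 1) → F), 1 ≤ finrank F W ∧ 2 * finrank F W ≤ 9 + 1 ∧
      InvA H W := by
    rcases ogs hP hF hHt hx hnum with ⟨W, h0, h1, h2⟩ | ⟨r, hr, hrd, -⟩
    · exact exists_small hF h0 h1 h2
    · exfalso
      have h2 := dvd_sub_of_gcd hrd
      exact hr.one_lt.ne' (Nat.dvd_one.1 h2)
  have hWfx : W ≤ fx x := le_fx hl.pr hlo hxp (hWH x hx) (by omega)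
  have hfd := fx_dim hl.pr hlo (by omega) hxp hx1
  have hWd : finrank F W = 1 := by
    have := Submodule.finrank_mono hWfx
    omega
  have hWeq : W = fx x := Submodule.eq_of_le_of_finrank_le hWfx (by omega)
  have hnd : ND (p ^ f) W := by rw [hWeq]; exact nd_fx hF hl.pr hlq hxp
  obtain ⟨w, hww, hwW⟩ := exists_span hWd hnd
  obtain ⟨ι, hι, hιr⟩ := exists_iota hF hww
  by_cases hB : H.comap ι = ⊤
  · refine ⟨w, hww, fun g hg => ?_⟩
    obtain ⟨y, rfl⟩ := (hιr g).1 hg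
    have : y ∈ H.comap ι := by rw [hB]; trivial
    exact this
  exfalso
  have key : ∀ {k s : ℕ}, Odd k → 7 ≤ k → Pm p f k s → s ∣ Nat.card H → s ∣ Nat.card (H.comap ι) := by
    intro k s hk hk7 hs hsd
    obtain ⟨g, hg, hgs, hg1, hgo⟩ := exists_elt hs.pr hsd
    have hso := hs.card_ord hp hf (by omega) hk hF
    have hgw := fix_of_line (a := 1) hs.pr hso (by omega) hWH hWd hg (by rw [pow_one]; exact hgs) hwW
    obtain ⟨z, rfl⟩ := (hιr g).1 hgw
    rw [orderOf_injective ι hι] at hgo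
    rw [← hgo]
    exact Subgroup.orderOf_dvd_natCard _ hg
  have hMt : (H.comap ι).map (pr : SU 9 F (p ^ f) →* _) ≠ ⊤ := map_ne_top hF (by norm_num) (by norm_num) hB
  obtain ⟨M, hM, hle⟩ := (eq_top_or_exists_le_coatom ((H.comap ι).map (pr : SU 9 F (p ^ f) →* _))).resolve_left hMt
  have hto : ∀ {k s : ℕ}, Odd k → 7 ≤ k → Pm p f k s → s ∣ Nat.card H → s ∣ Nat.card M := by
    intro k s hk hk7 hs hsd
    exact (dvd_map hF (by norm_num) hs.pr (hs.not_dvd_succ hf (by omega)) (key hk hk7 hs hsd)).trans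
      (Subgroup.card_dvd_of_le hle)
  have h7 : ∀ {s : ℕ}, Pm p f 7 s → s ∣ Nat.card Y := fun hs =>
    h.other_pm hp hf hF hs (by omega) ho7 (by omega) fun hsd =>
      nine_coatom hres hp hf hF hl.toPm hs hM (hto hodd (by norm_num) hl.toPm (hd.trans (card_dvd_comap X)))
        (hto ho7 le_rfl hs hsd)
  obtain ⟨t, ht⟩ := exists_ev (p := p) (f := f) (n := 9 + 1) hp hf (by omega)
  have hev : Even (9 + 1) := by decide
  have htO := ht.card_ord hev hF
  have htq : ¬ t ∣ p ^ f := Cfsg.Agent.H251.GeoU.not_dvd_of_ord ht.pr ht.ord (by omega)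
  have htY : t ∣ Nat.card Y := by
    refine h.other_ev hF ht (by omega) le_rfl fun htd => ?_
    obtain ⟨g, hg, hgs, hg1, -⟩ := exists_elt ht.pr htd
    have h5 : W ≤ fx g := le_fx (a := 1) ht.pr htO (by rw [pow_one]; exact hgs) (hWH g hg) (by omega)
    have h6 := fx_dim_neg hF ht.pr htq hgs hg1
    rw [ht.ord] at h6
    have := Submodule.finrank_mono h5
    omega
  -- the second factor
  obtain ⟨l', hl'⟩ := exists_gd (p := p) (f := f) (k := 7) hp hf le_rfl ho7 (by omega)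
  obtain ⟨x', hx', hxo'⟩ := exists_full_elt h.symm hp hf hF (by omega) hl' ho7 (by omega) (by omega) (by omega)
    (h7 hl'.toPm)
  have hnum' : Num ((p ^ f) ^ 2) (9 + 1) 7 (orderOf x') := by
    rw [hxo']; exact hl'.num hp hf (by omega) (by omega) (by omega)
  have hl'o := hl'.toPm.card_ord hp hf (by omega) ho7 hF
  have hxp' := pow_full hxo'
  rcases ogs hP hF (comap_ne_top h.neY) hx' hnum' with ⟨W', h0, h1, h3⟩ | ⟨r', hr', hrd', hNF'⟩
  · obtain ⟨W'', g1, g2, g3⟩ := exists_small hF h0 h1 h3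
    obtain ⟨z, hz, hzt, hz1, -⟩ := exists_elt_pr ht.pr htY
    have h6 := fx_dim_neg hF ht.pr htq hzt hz1
    rw [ht.ord] at h6
    have h7 := dvd_dim (a := 1) ht.pr htO (by omega) (by rw [pow_one]; exact hzt) (g3 z hz)
    have h8 : finrank F (W'' ⊓ fx z : Submodule F (Fin (9 + 1) → F)) ≤ finrank F (fx z) :=
      Submodule.finrank_mono inf_le_right
    have h9 := Nat.le_of_dvd (by omega) h7
    have h10 := Submodule.finrank_mono (le_fx hl'.pr hl'o hxp' (g3 x' hx') (by omega))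
    have h11 := fx_dim hl'.pr hl'o (by omega) hxp' (ne_one_of_num hnum')
    omega
  · have h5 : Nat.gcd (9 + 1) 7 = 1 := by norm_num
    rw [h5] at hrd'
    exact hr'.one_lt.ne' (Nat.dvd_one.1 hrd')

/-- **The main theorem for `N ≥ 10`.** -/
theorem core_ten {N : ℕ} (hP : Cfsg.Agent.H659.CovCore.S5948Stmt.{0}) (hres : Res9 F (p ^ f)) (hp : p.Prime) (hf : 1 ≤ f)
    (hF : Fintype.card F = (p ^ f) ^ 2) (hN : 10 ≤ N) (hex : ¬ (N = 10 ∧ p ^ f = 2)) {X Y : Subgroup (PSU N F (p ^ f))}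
    (h : Pr p f X Y) : Res X ∨ Res Y := by
  rcases Nat.lt_or_ge 10 N with hN' | hN'
  · exact core hP hp hf hF hN' h
  have hN10 : N = 9 + 1 := by omega
  subst hN10
  obtain ⟨l, hl⟩ := exists_gd (p := p) (f := f) (k := 9) hp hf (by omega) (by decide) (by omega)
  rcases h.one hp hf hF hl.toPm (by omega) (by decide) (by omega) with hd | hd
  · exact Or.inl (ten_case hP hres hp hf hF h hl hd)
  · exact Or.inr (ten_case hP hres hp hf hF h.symm hl hd)

theorem aux_ten {c A B : ℕ} (hA : B ≤ A) (h0 : (2 + 1) * c ≤ B) (h : 3 * A < c) : False := by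
  omega

theorem card_psu_ten_two (hF : Fintype.card F = 2 ^ 2) : (2 + 1) * Nat.card (PSU 10 F 2) ≤ 2 ^ 101 := by
  have h0 := S0280.result (F := F) hF 10 (by norm_num)
  have h1 : Nat.gcd 10 (2 + 1) = 1 := by norm_num
  rw [h1, one_mul] at h0
  rw [h0]
  simp only [Finset.prod_range_succ, Finset.prod_range_zero]
  norm_num [Nat.even_iff]

theorem fac_29 : (2 : ℕ) ^ 101 ≤ Nat.factorial 29 := by
  norm_num [Nat.factorial]

/-- **One factor contains the stabiliser of a nonsingular vector (`N ≥ 10`).** -/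
theorem top_psu {N q : ℕ} {G : Type*} [Group G] [Finite G] {T X Y : Subgroup G}
    (hP : Cfsg.Agent.H659.CovCore.S5948Stmt.{0}) (hres : Res9 F q)
    (h : Fac T X Y) (hF : Fintype.card F = q ^ 2) (hN : 10 ≤ N) (e : T ≃* PSU N F q) :
    (∃ w : Fin N → F, hermForm N F q w w ≠ 0 ∧
      ∀ g : SU N F q, act g w = w → ((e.symm (pr g) : T) : G) ∈ X) ∨
    (∃ w : Fin N → F, hermForm N F q w w ≠ 0 ∧
      ∀ g : SU N F q, act g w = w → ((e.symm (pr g) : T) : G) ∈ Y) := by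
  have hex : ¬ (N = 10 ∧ q = 2) := by
    rintro ⟨rfl, rfl⟩
    have h1 := h.large
    rw [Nat.card_congr e.toEquiv] at h1
    exact aux_ten fac_29 (card_psu_ten_two hF) h1
  obtain ⟨p, f, hp, hf, rfl, -⟩ := H251.GeoU.exists_prime_power hF
  have hpr := pr_of_fac h hp hf hF (by omega) (by omega) e
  have key : ∀ {Z : Subgroup G}, Res (img e Z) → ∃ w : Fin N → F, hermForm N F (p ^ f) w w ≠ 0 ∧
      ∀ g : SU N F (p ^ f), act g w = w → ((e.symm (pr g) : T) : G) ∈ Z := by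
    rintro Z ⟨w, hw, hg⟩
    refine ⟨w, hw, fun g hgw => ?_⟩
    rw [← mem_img e, e.apply_symm_apply]
    exact hg g hgw
  rcases core_ten hP hres hp hf hF hN hex hpr with h1 | h1
  · exact Or.inl (key h1)
  · exact Or.inr (key h1)

end Cfsg.Agent.H89.Reg
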