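import Cfsg.Agent.H89.Reg.Num
import Cfsg.Agent.H981.Cov.Inc

/-!
# S3691, row `PSU_N(q)`: tools for subgroups of `SU_n(q)`
-/

set_option autoImplicit false
set_option linter.unusedSectionVars false

namespace Cfsg.Agent.H89.Reg

open Cfsg Cfsg.Geo Module Matrix
open Cfsg.Agent.LieClassical.HermBasic Cfsg.Agent.ClassicalGeometry.HermOrtho
open Cfsg.Agent.LieClassical.HermSiegel (act mat act_mul act_one act_inv_act act_act_inv herm_act)
open Cfsg.Agent.H278.Cov
open Cfsg.Agent.GpUn (fx mem_fx ND fixG mem_fixG exists_equiv)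
open Cfsg.Agent.H779.DP (rho rho_apply rho_injective)
open Cfsg.Agent.H809.SelfCent (toG toG_injective toG_val)
open Cfsg.Agent.H674.SUTools (cm cm_injective det_cm)
open Cfsg.Agent.H981.Cov (isUnitaryForm_herm)

variable {F : Type} [Field F] [Fintype F] {n q : ℕ}

/-- `W` is invariant under `A` -/
def InvA (A : Subgroup (SU n F q)) (W : Submodule F (Fin n → F)) : Prop := ∀ g ∈ A, ∀ w ∈ W, act g w ∈ W

/-- `A` normalises a field of degree `r` -/
def NF (A : Subgroup (SU n F q)) (r : ℕ) : Prop :=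
  ∃ E : Subalgebra F (Matrix (Fin n) (Fin n) F), IsFieldSubalgebra r E ∧ ∀ g ∈ A, toG n F q g ∈ subalgebraNormalizer E

/-- overgroups of an element of large primitive order -/
theorem ogs (hP : Cfsg.Agent.H659.CovCore.S5948Stmt.{0}) (hF : Fintype.card F = q ^ 2) {A : Subgroup (SU n F q)}
    (hA : A ≠ ⊤) {x : SU n F q} (hx : x ∈ A) {k : ℕ} (hnum : Num (q ^ 2) n k (orderOf x)) :
    (∃ W : Submodule F (Fin n → F), W ≠ ⊥ ∧ W ≠ ⊤ ∧ InvA A W) ∨ ∃ r, r.Prime ∧ r ∣ Nat.gcd n k ∧ NF A r := by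
  set K := A.map (toG n F q) with hK
  have hfix : FixesForm (matrixSet K) (hermForm n F q) := by
    rintro _ ⟨_, ⟨z, hz, rfl⟩, rfl⟩ u v
    exact z.2 u v
  have hdet : ∀ z ∈ K, Matrix.GeneralLinearGroup.det z = 1 := by
    rintro _ ⟨z, hz, rfl⟩
    apply Units.ext
    exact det_cm z
  have hne : ∃ z : GL (Fin n) F, FixesForm {(z : Matrix (Fin n) (Fin n) F)} (hermForm n F q) ∧
      Matrix.GeneralLinearGroup.det z = 1 ∧ z ∉ K := by
    obtain ⟨z, hz⟩ : ∃ z, z ∉ A := by
      by_contra hc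
      push Not at hc
      exact hA (Subgroup.eq_top_iff' A |>.2 hc)
    refine ⟨toG n F q z, ?_, ?_, ?_⟩
    · intro w hw u v
      rw [Set.mem_singleton_iff.1 hw]
      exact z.2 u v
    · apply Units.ext
      exact det_cm z
    · rintro ⟨w, hw, hwz⟩
      rw [toG_injective hwz] at hw
      exact hz hw
  have hxK : toG n F q x ∈ K := ⟨x, hx, rfl⟩
  have hox : orderOf (toG n F q x) = orderOf x := orderOf_injective _ toG_injective x
  have hog := Cfsg.Agent.H89.Cov.og_su hP hF (isUnitaryForm_herm hF) hfix hdet hne hxK (k := k)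
    (by rw [hox, Fintype.card_fin, hF]; exact hnum)
  rcases hog with ⟨W, hW0, hW1, hW⟩ | ⟨r, E, hr, hrd, hEf, hEK⟩
  · left
    refine ⟨W, hW0, hW1, fun g hg w hw => ?_⟩
    exact ((hW ⟨g, hg, rfl⟩) w).1 hw
  · right
    rw [Fintype.card_fin] at hrd
    exact ⟨r, hr, hrd, E, hEf, fun g hg => hEK ⟨g, hg, rfl⟩⟩

/-! ### dimensions -/

theorem InvA.perp {A : Subgroup (SU n F q)} {W : Submodule F (Fin n → F)} (h : InvA A W) :
    InvA A (hermPerp q (W : Set (Fin n → F))) := fun _ hg _ hw =>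
  Cfsg.Agent.GpUn.act_perp (fun u hu => h _ (A.inv_mem hg) u hu) hw

theorem finrank_perp (hF : Fintype.card F = q ^ 2) (W : Submodule F (Fin n → F)) :
    finrank F W + finrank F (hermPerp q (W : Set (Fin n → F))) = n := by
  have h := (H950.frm_herm hF n).finrank_perp_inf' (H950.nd_top hF n) (le_top (a := W))
  rw [inf_top_eq, finrank_top, finrank_fin_fun] at h
  exact h

/-- a small invariant subspace -/
theorem exists_small (hF : Fintype.card F = q ^ 2) {A : Subgroup (SU n F q)} {W : Submodule F (Fin n → F)}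
    (h0 : W ≠ ⊥) (h1 : W ≠ ⊤) (hW : InvA A W) :
    ∃ W' : Submodule F (Fin n → F), 1 ≤ finrank F W' ∧ 2 * finrank F W' ≤ n ∧ InvA A W' := by
  have h2 := finrank_perp hF W
  have h3 : 0 < finrank F W := by
    rw [Nat.pos_iff_ne_zero]
    exact fun h => h0 (Submodule.finrank_eq_zero.1 h)
  have h4 : finrank F W < n := by
    have := Submodule.finrank_lt h1
    rwa [finrank_fin_fun] at this
  by_cases h5 : 2 * finrank F W ≤ n
  · exact ⟨W, h3, h5, hW⟩
  · exact ⟨_, by omega, by omega, hW.perp⟩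

section Dim

variable {l e a : ℕ} {x : SU n F q}

theorem dvd_dim (hl : l.Prime) (he : orderOf ((Nat.card F : ℕ) : ZMod l) = e) (he0 : e ≠ 0)
    (hx : x ^ l ^ a = 1) {W : Submodule F (Fin n → F)} (hW : ∀ w ∈ W, act x w ∈ W) :
    e ∣ finrank F W - finrank F (W ⊓ fx x : Submodule F (Fin n → F)) := by
  have h := H524.LinReg.dvd_finrank (rho n F q) hl hx he he0 (U := W) (fun u hu => by rw [rho_apply]; exact hW u hu)
  rwa [H779.DP.fx_rho] at h

theorem le_fx (hl : l.Prime) (he : orderOf ((Nat.card F : ℕ) : ZMod l) = e) (hx : x ^ l ^ a = 1)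
    {W : Submodule F (Fin n → F)} (hW : ∀ w ∈ W, act x w ∈ W) (hlt : finrank F W < e) : W ≤ fx x := by
  have h1 := dvd_dim hl he (by omega) hx hW
  have h2 : finrank F (W ⊓ fx x : Submodule F (Fin n → F)) ≤ finrank F W := Submodule.finrank_mono inf_le_left
  have h3 : finrank F W - finrank F (W ⊓ fx x : Submodule F (Fin n → F)) = 0 := by
    by_contra h
    have := Nat.le_of_dvd (by omega) h1
    omega
  have h4 : W ⊓ fx x = W := Submodule.eq_of_le_of_finrank_eq inf_le_left (by omega)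
  rw [← h4]
  exact inf_le_right

theorem fx_dim (hl : l.Prime) (he : orderOf ((Nat.card F : ℕ) : ZMod l) = e) (he0 : e ≠ 0) (hx : x ^ l ^ a = 1)
    (hx1 : x ≠ 1) : finrank F (fx x) + e ≤ n := by
  have h := (H524.LinReg.fx_top (rho n F q) hl rho_injective hx hx1 he he0).2
  rwa [H779.DP.fx_rho, finrank_fin_fun] at h

theorem nd_fx (hF : Fintype.card F = q ^ 2) (hl : l.Prime) (hlq : ¬ l ∣ q) (hx : x ^ l ^ a = 1) : ND q (fx x) := by
  have hlF : (l : F) ≠ 0 := Cfsg.Agent.H251.GeoU.natCast_ne hF hl hlq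
  have h := Cfsg.Agent.GpUn.nd_inf_fx hF (p := l ^ a) (by rw [Nat.cast_pow]; exact pow_ne_zero _ hlF)
    (Cfsg.Agent.GpUn.nd_top hF) hx (fun _ _ => trivial)
  rwa [top_inf_eq] at h

theorem fx_dim_neg (hF : Fintype.card F = q ^ 2) (hl : l.Prime) (hlq : ¬ l ∣ q) (hx : x ^ l = 1) (hx1 : x ≠ 1) :
    finrank F (fx x) + orderOf (-(q : ZMod l)) ≤ n := by
  have := Fact.mk hl
  have h1 : H951.Isom (hermForm n F q) (rho n F q x) := by
    intro u v
    rw [rho_apply, rho_apply]
    exact herm_act x u v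
  have h := Cfsg.Agent.H251.GeoU.fix_le hF hlq h1 (by rw [← map_pow, hx, map_one])
    (fun h => hx1 (rho_injective (by rw [h, map_one])))
  have h2 : H951.fx (rho n F q x) = fx x := by
    ext v
    rw [H951.mem_fx, rho_apply, mem_fx]
  rwa [h2] at h

end Dim

/-! ### restriction to the orthogonal complement of a nonsingular vector -/

theorem nd_perp_span (hF : Fintype.card F = q ^ 2) {w : Fin n → F} (hw : hermForm n F q w w ≠ 0) :
    ND q (F ∙ w) := by
  intro u hu h
  obtain ⟨c, rfl⟩ := Submodule.mem_span_singleton.1 hu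
  have h1 := h w (Submodule.mem_span_singleton_self w)
  rw [herm_smul_left] at h1
  rcases mul_eq_zero.1 h1 with h2 | h2
  · rw [h2, zero_smul]
  · exact absurd h2 hw

/-- the stabiliser of a nonsingular vector of `SU_(n+1)` is `SU_n` -/
theorem exists_iota (hF : Fintype.card F = q ^ 2) {w : Fin (n + 1) → F} (hw : hermForm (n + 1) F q w w ≠ 0) :
    ∃ ι : SU n F q →* SU (n + 1) F q, Function.Injective ι ∧ ∀ g, act g w = w ↔ g ∈ ι.range := by
  have hw0 : w ≠ 0 := by
    rintro rfl
    exact hw (herm_zero_left _)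
  have hnd := nd_perp_span hF hw
  set U := hermPerp q ((F ∙ w : Submodule F (Fin (n + 1) → F)) : Set (Fin (n + 1) → F)) with hU
  have hUnd : ND q U := hermPerp_nondeg hF (F ∙ w) hnd
  have hUd : finrank F U = n := by
    have h : finrank F (F ∙ w) + finrank F U = n + 1 := finrank_perp hF (F ∙ w)
    rw [finrank_span_singleton hw0] at h
    omega
  obtain ⟨e⟩ := exists_equiv hF U hUnd hUd
  refine ⟨(fixG q (hermPerp q (U : Set (Fin (n + 1) → F)))).subtype.comp e.toMonoidHom,
    (Subgroup.subtype_injective _).comp e.injective, fun g => ?_⟩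
  have hrange : ((fixG q (hermPerp q (U : Set (Fin (n + 1) → F)))).subtype.comp e.toMonoidHom).range =
      fixG q (hermPerp q (U : Set (Fin (n + 1) → F))) := by
    rw [MonoidHom.range_comp, MonoidHom.range_eq_top.2 e.surjective, ← MonoidHom.range_eq_map,
      Subgroup.range_subtype]
  rw [hrange, mem_fixG]
  constructor
  · intro hg v hv
    have hv' : v ∈ (F ∙ w : Submodule F (Fin (n + 1) → F)) := by
      by_contra hv2
      have h1 : finrank F U + finrank F (hermPerp q (U : Set (Fin (n + 1) → F))) = n + 1 := finrank_perp hF U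
      have h2 : (F ∙ w : Submodule F (Fin (n + 1) → F)) ≤ hermPerp q (U : Set (Fin (n + 1) → F)) := by
        intro z hz u hu
        have h3 : hermForm (n + 1) F q u z = 0 := hu z hz
        exact herm_eq_zero_swap hF h3
      have h3 : finrank F (F ∙ w) < finrank F (hermPerp q (U : Set (Fin (n + 1) → F))) :=
        Submodule.finrank_lt_finrank_of_lt (lt_of_le_of_ne h2 fun h => hv2 (h ▸ hv))
      rw [finrank_span_singleton hw0] at h3
      omega
    obtain ⟨c, rfl⟩ := Submodule.mem_span_singleton.1 hv'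
    rw [Cfsg.Agent.LieClassical.HermSiegel.act_smul, hg]
  · intro hg
    apply hg
    intro u hu
    have h3 : hermForm (n + 1) F q u w = 0 := hu w (Submodule.mem_span_singleton_self w)
    exact herm_eq_zero_swap hF h3

/-! ### fields -/

/-- prime divisors of the normaliser of a field -/
theorem NF.div (hF : Fintype.card F = q ^ 2) {A : Subgroup (SU n F q)} {r : ℕ} (hr : r.Prime) (hn : 0 < n) (h : NF A r)
    {l e : ℕ} (hl : l.Prime) (hlq : ¬ l ∣ q) (hlr : l ≠ r) (he : orderOf ((Nat.card F : ℕ) : ZMod l) = e)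
    (hd : l ∣ Nat.card A) : ∃ i, 1 ≤ i ∧ r * i ≤ n ∧ e ∣ r * i := by
  have hne : Nonempty (Fin n) := ⟨⟨0, hn⟩⟩
  obtain ⟨E, hE, hA⟩ := h
  have hfin : Finite (GL (Fin n) F) := inferInstance
  have h1 : l ∣ Nat.card (subalgebraNormalizer E) := by
    refine hd.trans ?_
    have h2 : A.map (toG n F q) ≤ subalgebraNormalizer E := by
      rintro _ ⟨g, hg, rfl⟩
      exact hA g hg
    rw [← Subgroup.card_map_of_injective (K := A) (toG_injective (n := n) (F := F) (q := q))]
    exact Subgroup.card_dvd_of_le h2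
  rcases Cfsg.Agent.H251.GeoCard.extension hr hE hl (Cfsg.Agent.H251.GeoU.not_dvd_card hF hl hlq) h1 with h2 | h2
  · exact absurd h2 hlr
  · obtain ⟨i, h3, h4, h5⟩ := h2
    rw [Fintype.card_fin] at h4
    have hq1 : 1 ≤ Nat.card F := Nat.card_pos
    refine ⟨i, h3, ?_, ?_⟩
    · calc r * i ≤ r * (n / r) := Nat.mul_le_mul_left _ h4
        _ ≤ n := Nat.mul_div_le n r
    · rw [← pow_mul] at h5
      rw [← he]
      exact (Lib.Zsigmondy.dvd_pow_sub_one_iff hq1 _).1 h5

end Cfsg.Agent.H89.Reg
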